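import Cfsg.Agent.Lib.PushAmalgam.TwoLayer.Special

/-!
# Two natural layers: what the pushing-up uses

The residual maps onto the derived group of `SL₂`, the action of `A` on the upper layer, and the cubic map
`y ↦ [a, [a, y]]` with values in `W × Z`.
-/

set_option autoImplicit false
set_option linter.style.haveILetI false
set_option linter.unusedSectionVars false

open Subgroup
open scoped MatrixGroups commutatorElement Pointwise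
open CfsgLib.PushUp (cj mem_cj conj_mem_cj card_cj ctr Fr)
open CfsgLib.PushUpTwo (upGroup up_mem eq_up_of_mem)

namespace CfsgLib.PushAmalgam.TwoLayer

universe u

variable {Γ : Type u} [Group Γ]

local notation "Q3" => Cfsg.pCore 3 Γ
local notation "K3" => Cfsg.pResidual 3 Γ

/-- The residual under a surjection. -/
theorem map_residual {Δ : Type*} [Group Δ] [Finite Γ] {f : Γ →* Δ} (hf : Function.Surjective f)
    {N : Subgroup Δ} [N.Normal] (hN : IsPGroup 3 (Δ ⧸ N)) : (K3).map f ≤ N := by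
  rw [map_le_iff_le_comap]
  refine le_of_le_of_eq (CfsgLib.Fusion.pResidual_le_ker ((QuotientGroup.mk' N).comp f) hN) ?_
  ext x
  simp [MonoidHom.mem_ker]

variable {F : Type} [Field F] [Fintype F] [CharP F 3] {S V A A₀ : Subgroup Γ}

theorem upGroup_comm : ∀ x ∈ upGroup F, ∀ y ∈ upGroup F, Commute x y := by
  intro x hx y hy
  rw [eq_up_of_mem hx, eq_up_of_mem hy]
  show CfsgLib.PushUpTwo.up _ * _ = _ * _
  rw [← up_add, ← up_add, add_comm]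

theorem upGroup_isP : IsPGroup 3 ↥(upGroup F) := by
  obtain ⟨k, -, hk⟩ := FiniteField.card F 3
  exact IsPGroup.of_card (n := (k : ℕ)) (by rw [CfsgLib.PushUpTwo.card_upGroup, Nat.card_eq_fintype_card, hk])

/-- An element of order dividing four lies in the derived group. -/
theorem four_mem_commutator (h : IsPGroup 3 (SL(2, F) ⧸ _root_.commutator SL(2, F))) {g : SL(2, F)}
    (hg : g ^ 4 = 1) : g ∈ _root_.commutator SL(2, F) := by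
  refine CfsgLib.Fusion.pResidual_le_of_isPGroup_quotient _ h (CfsgLib.Fusion.mem_pResidual ?_)
  exact Nat.Coprime.coprime_dvd_left (orderOf_dvd_of_pow_eq_one hg) (by decide)

namespace Lay

variable [Finite Γ] (h : Lay F S V A A₀)
include h

/-- The derived quotient of `SL₂(F)` is a `3`-group. -/
theorem derived_isP : IsPGroup 3 (SL(2, F) ⧸ _root_.commutator SL(2, F)) := by
  obtain ⟨-, ρ, -, hρ, -, hS, -, -, -⟩ := h.W_natural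
  obtain ⟨g, hg, -⟩ := h.opp
  obtain ⟨π, hπ⟩ : ∃ π, π = QuotientGroup.mk' (_root_.commutator SL(2, F)) := ⟨_, rfl⟩
  have hπs : Function.Surjective π := hπ ▸ QuotientGroup.mk'_surjective _
  have hc : ∀ a b, π a * π b = π b * π a := fun a b => by
    rw [← commutatorElement_eq_one_iff_mul_comm, ← map_commutatorElement, hπ, QuotientGroup.mk'_apply,
      QuotientGroup.eq_one_iff]
    exact commutator_mem_commutator (mem_top a) (mem_top b)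
  have h1 : (⊤ : Subgroup (SL(2, F) ⧸ _root_.commutator SL(2, F))) ≤ (upGroup F).map π := by
    rw [← map_top_of_surjective (π.comp ρ) (hπs.comp hρ), ← hg, Subgroup.map_sup]
    refine sup_le (by rw [← Subgroup.map_map, hS]) ?_
    rintro _ ⟨_, ⟨s, hs, rfl⟩, rfl⟩
    refine ⟨ρ s, hS ▸ mem_map_of_mem ρ hs, ?_⟩
    simp only [MulEquiv.coe_toMonoidHom, MulAut.conj_apply, MonoidHom.comp_apply, map_mul, map_inv]
    rw [hc (ρ g) (ρ s), mul_inv_cancel_right]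
  exact ((upGroup_isP (F := F)).map π |>.to_le h1).of_equiv topEquiv

/-- The residual maps onto the derived group. -/
theorem map_K {ρ : Γ →* SL(2, F)} (hρ : Function.Surjective ρ) (hker : ρ.ker = Cfsg.pCore 3 Γ) :
    (K3).map ρ = _root_.commutator SL(2, F) := by
  obtain ⟨P₀, hP₀⟩ := h.syl
  refine le_antisymm (map_residual hρ h.derived_isP) ?_
  haveI := residual_normal (Γ := Γ)
  haveI hn : ((K3).map ρ).Normal := Subgroup.Normal.map inferInstance ρ hρ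
  obtain ⟨g, hg⟩ := h.exists_up ρ hρ
  rw [_root_.commutator_def]
  refine commutator_le.2 fun a _ b _ => ?_
  rw [← QuotientGroup.eq_one_iff, ← QuotientGroup.mk'_apply, map_commutatorElement,
    commutatorElement_eq_one_iff_mul_comm]
  have hrep : ∀ a, ∃ u ∈ upGroup F, QuotientGroup.mk' ((K3).map ρ) a =
      QuotientGroup.mk' ((K3).map ρ) (g⁻¹ * u * g) := by
    intro a
    obtain ⟨x, rfl⟩ := hρ a
    have hx : x ∈ K3 ⊔ (P₀ : Subgroup Γ) := (CfsgLib.Fusion.pResidual_sup_sylow P₀).ge (mem_top x)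
    obtain ⟨k, hk, s, hs, rfl⟩ := mem_sup_of_normal_left.1 hx
    refine ⟨g * ρ s * g⁻¹, hg.le ⟨ρ s, mem_map_of_mem ρ (hP₀ ▸ hs), rfl⟩, ?_⟩
    rw [map_mul ρ, map_mul, show QuotientGroup.mk' ((K3).map ρ) (ρ k) = 1 from
      (QuotientGroup.eq_one_iff _).2 (mem_map_of_mem ρ hk), one_mul]
    congr 1
    group
  obtain ⟨u, hu, ea⟩ := hrep a
  obtain ⟨v, hv, eb⟩ := hrep b
  rw [ea, eb, ← map_mul, ← map_mul]
  congr 1
  calc g⁻¹ * u * g * (g⁻¹ * v * g) = g⁻¹ * (u * v) * g := by group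
    _ = g⁻¹ * (v * u) * g := by rw [(upGroup_comm u hu v hv).eq]
    _ = _ := by group

theorem exists_K_lift {ρ : Γ →* SL(2, F)} (hρ : Function.Surjective ρ) (hker : ρ.ker = Cfsg.pCore 3 Γ)
    {g : SL(2, F)} (hg : g ^ 4 = 1) : ∃ k ∈ K3, ρ k = g :=
  (h.map_K hρ hker).ge (four_mem_commutator h.derived_isP hg)

theorem mem_R_iff {ρ : Γ →* SL(2, F)} (hker : ρ.ker = Cfsg.pCore 3 Γ) {x : Γ} (hx : x ∈ K3) :
    ρ x = 1 ↔ x ∈ bR Γ := by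
  rw [← MonoidHom.mem_ker, hker]
  exact ⟨fun h1 => h.K_inf_Q ⟨hx, h1⟩, fun h1 => h.R_le_Q h1⟩

theorem quot_K : Nonempty (↥(K3) ⧸ Cfsg.pCore 3 ↥(K3) ≃* ↥(_root_.commutator SL(2, F))) := by
  haveI := CfsgLib.PushUp.pCore_normal 3 ↥(K3)
  obtain ⟨-, ρ, -, hρ, hker, -, -, -, -⟩ := h.R_step
  have hk : (ρ.comp (K3).subtype).rangeRestrict.ker = Cfsg.pCore 3 ↥(K3) := by
    rw [MonoidHom.ker_rangeRestrict, h.pCore_K]
    ext x
    exact h.mem_R_iff hker x.2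
  refine ⟨((QuotientGroup.quotientMulEquivOfEq hk.symm).trans
    (QuotientGroup.quotientKerEquivOfSurjective _ (MonoidHom.rangeRestrict_surjective _))).trans
    (MulEquiv.subgroupCongr ?_)⟩
  rw [MonoidHom.range_comp, range_subtype, h.map_K hρ hker]

/-- The action on `W × Z` modulo `Z`. -/
theorem exists_psi_WZ : ∃ (ρ : Γ →* SL(2, F)) (ψ : ↥(bW Γ ⊔ bZ Γ) →* Multiplicative (Fin 2 → F)),
    Function.Surjective ρ ∧ ρ.ker = Cfsg.pCore 3 Γ ∧ Function.Surjective ψ ∧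
    (∀ u, ψ u = 1 ↔ (u : Γ) ∈ bZ Γ) ∧
    ∀ (g : Γ) (v w : ↥(bW Γ ⊔ bZ Γ)), (w : Γ) = g * v * g⁻¹ →
      Multiplicative.toAdd (ψ w) =
        ((ρ g : SL(2, F)) : Matrix (Fin 2) (Fin 2) F).mulVec (Multiplicative.toAdd (ψ v)) := by
  classical
  haveI := h.normal_W
  haveI := h.normal_Z
  obtain ⟨-, ρ, ψ, hρ, hker, -, hψ, hψ1, heq⟩ := h.W_natural
  have hdec : ∀ x : ↥(bW Γ ⊔ bZ Γ), ∃ w : ↥(bW Γ), ∃ z ∈ bZ Γ, (x : Γ) = w * z := fun x => by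
    obtain ⟨w, hw, z, hz, e⟩ := mem_sup_of_normal_left.1 x.2
    exact ⟨⟨w, hw⟩, z, hz, e.symm⟩
  choose π z hz he using hdec
  have huniq : ∀ (x : ↥(bW Γ ⊔ bZ Γ)) (w : ↥(bW Γ)) (c : Γ), c ∈ bZ Γ → (x : Γ) = w * c → π x = w := by
    intro x w c hc e
    have h1 : (w : Γ)⁻¹ * π x = c * (z x)⁻¹ := by
      rw [eq_mul_inv_iff_mul_eq, mul_assoc, ← he, e, inv_mul_cancel_left]
    refine Subtype.ext ((inv_mul_eq_one.1 (mem_bot.1 (h.W_inf_cent.le ⟨(bW Γ).mul_mem ((bW Γ).inv_mem w.2) (π x).2, ?_⟩))).symm)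
    rw [h1]
    exact mul_mem hc.2 (Subgroup.inv_mem _ (hz x).2)
  have hmul : ∀ x y, π (x * y) = π x * π y := fun x y => huniq _ _ _ ((bZ Γ).mul_mem (hz x) (hz y)) (by
    rw [Subgroup.coe_mul, he x, he y, Subgroup.coe_mul, mul_assoc, ← mul_assoc (z x),
      ← mem_center_iff.1 (h.Z_le_center (hz x)) (π y : Γ)]
    group)
  refine ⟨ρ, ψ.comp (MonoidHom.mk' π hmul), hρ, hker, fun v => ?_, fun u => ?_, fun g v w e => ?_⟩
  · obtain ⟨u, hu⟩ := hψ v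
    refine ⟨⟨u, mem_sup_left u.2⟩, ?_⟩
    rw [MonoidHom.comp_apply, MonoidHom.mk'_apply, huniq ⟨u, _⟩ u 1 (one_mem _) (mul_one _).symm, hu]
  · rw [MonoidHom.comp_apply, MonoidHom.mk'_apply, hψ1, mem_bot]
    constructor
    · intro h1
      rw [he u, h1, one_mul]
      exact hz u
    · intro h1
      rw [huniq u 1 u h1 (one_mul _).symm]
      rfl
  · have hgw : g * (π v : Γ) * g⁻¹ ∈ bW Γ := Normal.conj_mem inferInstance _ (π v).2 g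
    have e' : π w = ⟨_, hgw⟩ := huniq w _ _ (Normal.conj_mem inferInstance _ (hz v) g) (by
      rw [e, he v]; group)
    simp only [MonoidHom.comp_apply, MonoidHom.mk'_apply, e']
    exact heq g (π v) _ rfl

theorem relIndex_A : (Cfsg.pCore 3 Γ).relIndex A = Fintype.card F := by
  haveI := h.normalQ
  obtain ⟨P₀, hP₀⟩ := h.syl
  obtain ⟨e⟩ := h.quot
  have hsup : A ⊔ Cfsg.pCore 3 Γ = S := le_antisymm (sup_le h.A_le h.Q_le) fun s hs => by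
    obtain ⟨a, ha, c, hc, rfl⟩ := h.A_sup s hs
    exact mul_mem_sup ha hc
  rw [← relIndex_of_quot P₀ e, hP₀, ← hsup, relIndex_sup_right]

/-! ### The action of `A` on a normal subgroup between `R` and `O_3(Γ)` -/

section Between

variable {P : Subgroup Γ} [P.Normal] (hRP : bR Γ ≤ P) (hPQ : P ≤ Cfsg.pCore 3 Γ)
include hRP hPQ

theorem split_P {y : Γ} (hy : y ∈ P) :
    ∃ r ∈ bR Γ, ∃ d ∈ P, d ∈ bD Γ ∧ y = r * d := by
  obtain ⟨r, hr, d, hd, rfl⟩ := h.Q_eq (hPQ hy)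
  exact ⟨r, hr, d, by simpa using P.mul_mem (P.inv_mem (hRP hr)) hy, hd, rfl⟩

theorem comm_A_split {a : Γ} (ha : a ∈ A) {r d : Γ} (hr : r ∈ bR Γ) (hdP : d ∈ P) (hd : d ∈ bD Γ) :
    ⁅a, r * d⁆ = ⁅a, r⁆ * ⁅a, d⁆ ∧ ⁅a, d⁆ ∈ center Γ ⊓ P := by
  have hc : ⁅a, d⁆ ∈ center Γ := by
    rw [← commutatorElement_inv]; exact Subgroup.inv_mem _ (h.comm_DA hd ha)
  refine ⟨by rw [comm_conj_mul, mem_center_iff.1 hc r, mul_inv_cancel_right], hc, ?_⟩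
  exact P.mul_mem (Normal.conj_mem inferInstance d hdP a) (P.inv_mem hdP)

theorem fix_all {a t : Γ} (ha : a ∈ A) (haQ : a ∉ Q3) (ht : t ∈ A) {y : Γ} (hy : y ∈ P)
    (h1 : ⁅a, y⁆ ∈ bW Γ ⊔ bD Γ) : ⁅t, y⁆ ∈ (bW Γ ⊔ bZ Γ) ⊔ (center Γ ⊓ P) := by
  obtain ⟨r, hr, d, hdP, hd, rfl⟩ := h.split_P hRP hPQ hy
  obtain ⟨e, hc⟩ := h.comm_A_split hRP hPQ ha hr hdP hd
  obtain ⟨e', hc'⟩ := h.comm_A_split hRP hPQ ht hr hdP hd
  have hmem : ⁅a, r⁆ ∈ bW Γ ⊔ bZ Γ := by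
    haveI := h.normal_R
    refine h.mem_WZ ((bR Γ).mul_mem (Normal.conj_mem inferInstance r hr a) ((bR Γ).inv_mem hr)) ?_
    rw [e] at h1
    have h2 : ⁅a, d⁆ ∈ bD Γ := by
      haveI := h.normal_D
      exact (bD Γ).mul_mem (Normal.conj_mem inferInstance d hd a) ((bD Γ).inv_mem hd)
    have h3 := mul_mem h1 (Subgroup.inv_mem _ (mem_sup_right h2 : ⁅a, d⁆ ∈ bW Γ ⊔ bD Γ))
    rwa [mul_inv_cancel_right] at h3
  rw [e']
  exact mul_mem_sup (((h.R_step.line_eq h.normal_R (h.A_le ha) haQ).1 r hr hmem).2 t (h.A_le ht)) hc'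

theorem line_fix {a t : Γ} (ha : a ∈ A) (ht : t ∈ A) {y : Γ} (hy : y ∈ P) :
    ⁅t, ⁅a, y⁆⁆ ∈ bW Γ ⊔ bZ Γ := by
  haveI := h.normal_W
  haveI := h.normal_Z
  obtain ⟨r, hr, d, hdP, hd, rfl⟩ := h.split_P hRP hPQ hy
  obtain ⟨e, hc⟩ := h.comm_A_split hRP hPQ ha hr hdP hd
  rw [e, comm_conj_mul, commutatorElement_eq_one_iff_commute.2 (mem_center_iff.1 hc.1 t : Commute t ⁅a, d⁆),
    mul_one, mul_inv_cancel, mul_one]
  by_cases haQ : a ∈ Q3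
  · have hz : ⁅a, r⁆ ∈ bW Γ ⊔ bZ Γ := mem_sup_right (h.comm_QR haQ hr)
    exact mul_mem (Normal.conj_mem inferInstance _ hz t) (Subgroup.inv_mem _ hz)
  · exact ((h.R_step.line_eq h.normal_R (h.A_le ha) haQ).2.1 r hr).2 t (h.A_le ht)

theorem line_pow (hq : Fintype.card F = 3) {a : Γ} (ha : a ∈ A) (haQ : a ∉ Q3) {x y : Γ} (hx : x ∈ P)
    (hy : y ∈ P) (hne : ⁅a, y⁆ ∉ (bW Γ ⊔ bZ Γ) ⊔ (center Γ ⊓ P)) :
    ∃ k : ℕ, ⁅a, x⁆ * ⁅a, y⁆ ^ k ∈ (bW Γ ⊔ bZ Γ) ⊔ (center Γ ⊓ P) := by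
  classical
  haveI := h.normal_W
  haveI := h.normal_Z
  obtain ⟨r, hr, d, hdP, hd, rfl⟩ := h.split_P hRP hPQ hx
  obtain ⟨s, hs, d', hdP', hd', rfl⟩ := h.split_P hRP hPQ hy
  obtain ⟨e, hc⟩ := h.comm_A_split hRP hPQ ha hr hdP hd
  obtain ⟨e', hc'⟩ := h.comm_A_split hRP hPQ ha hs hdP' hd'
  obtain ⟨L, hL, -, -, hLi⟩ := h.R_step.exists_line h.normal_R
  have hl := fun r hr => (hL _).2 ((h.R_step.line_eq h.normal_R (h.A_le ha) haQ).2.1 r hr)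
  obtain ⟨π, hπ⟩ : ∃ π, π = QuotientGroup.mk' (bW Γ ⊔ bZ Γ) := ⟨_, rfl⟩
  have hcard : Nat.card ↥(L.map π) = 3 := by
    rw [← hq, ← hLi]
    have := relIndex_ker (K := L) π
    rw [hπ, QuotientGroup.ker_mk'] at this
    rw [hπ]
    exact this.symm
  have hne1 : (⟨π ⁅a, s⁆, mem_map_of_mem π (hl s hs)⟩ : ↥(L.map π)) ≠ 1 := by
    intro h1
    have h2 := congrArg Subtype.val h1
    simp only [Subgroup.coe_one, hπ, QuotientGroup.mk'_apply, QuotientGroup.eq_one_iff] at h2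
    exact hne (e' ▸ mul_mem_sup h2 hc')
  haveI : Fact (Nat.Prime 3) := ⟨Nat.prime_three⟩
  obtain ⟨k, hk⟩ := (mem_powers_iff_mem_zpowers).2 ((zpowers_eq_top_of_prime_card hcard hne1).ge
    (mem_top (⟨(π ⁅a, r⁆)⁻¹, Subgroup.inv_mem _ (mem_map_of_mem π (hl r hr))⟩ : ↥(L.map π))))
  refine ⟨k, ?_⟩
  have h1 : ⁅a, r⁆ * ⁅a, s⁆ ^ k ∈ bW Γ ⊔ bZ Γ := by
    have h2 := congrArg Subtype.val hk
    simp only [SubmonoidClass.coe_pow] at h2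
    rw [← QuotientGroup.eq_one_iff, ← QuotientGroup.mk'_apply, ← hπ, map_mul, map_pow, h2, mul_inv_cancel]
  rw [e, e', (show Commute ⁅a, s⁆ ⁅a, d'⁆ from mem_center_iff.1 hc'.1 _).mul_pow,
    show ⁅a, r⁆ * ⁅a, d⁆ * (⁅a, s⁆ ^ k * ⁅a, d'⁆ ^ k) = ⁅a, r⁆ * ⁅a, s⁆ ^ k * (⁅a, d⁆ * ⁅a, d'⁆ ^ k) by
      rw [mul_assoc, ← mul_assoc ⁅a, d⁆, ← mem_center_iff.1 hc.1 (⁅a, s⁆ ^ k)]
      group]
  exact mul_mem_sup h1 (mul_mem hc (pow_mem hc' k))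

theorem cub_mem {a y : Γ} (ha : a ∈ A) (hy : y ∈ P) : ⁅a, ⁅a, y⁆⁆ ∈ bW Γ ⊔ bZ Γ :=
  h.line_fix hRP hPQ ha ha hy

theorem cub_mul {a x y : Γ} (ha : a ∈ A) (hx : x ∈ P) (hy : y ∈ P) :
    ⁅a, ⁅a, x * y⁆⁆ = ⁅a, ⁅a, x⁆⁆ * ⁅a, ⁅a, y⁆⁆ := by
  have hmemP : ∀ {z}, z ∈ P → ⁅a, z⁆ ∈ P := fun hz =>
    P.mul_mem (Normal.conj_mem inferInstance _ hz a) (P.inv_mem hz)
  obtain ⟨f, hf⟩ : ∃ f, f = ⁅x, ⁅a, y⁆⁆ := ⟨_, rfl⟩
  have hfF : f ∈ Fr (Cfsg.pCore 3 Γ) := hf ▸ h.comm_QQ (hPQ hx) (hPQ (hmemP hy))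
  have haf : ⁅a, f⁆ = 1 := commutatorElement_eq_one_iff_commute.2 (h.A_Fr a ha f hfF)
  have e : ⁅a, x * y⁆ = ⁅a, x⁆ * (f * ⁅a, y⁆) := by
    rw [hf]; simp only [commutatorElement_def]; group
  have hcomm : ∀ {z}, z ∈ P → ∀ {w}, w ∈ bW Γ ⊔ bZ Γ → z * w * z⁻¹ = w := by
    intro z hz w hw
    haveI := h.normal_W
    obtain ⟨w₁, hw₁, w₂, hw₂, rfl⟩ := mem_sup_of_normal_left.1 hw
    exact conj_of_commute (((h.Y_comm (h.W_le_Y hw₁) (hPQ hz)).mul_left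
      (show Commute w₂ z from (mem_center_iff.1 (h.Z_le_center hw₂) z).symm)).symm)
  have hfP : f ∈ P := hf ▸ P.mul_mem (Normal.conj_mem inferInstance _ (hmemP hy) x) (P.inv_mem (hmemP hy))
  rw [e, comm_conj_mul, comm_conj_mul a f, haf, one_mul, hcomm hfP (h.cub_mem hRP hPQ ha hy),
    hcomm (hmemP hx) (h.cub_mem hRP hPQ ha hy)]

theorem cub_shift {a u y : Γ} (ha : a ∈ A) (hu : u ∈ P) (hy : y ∈ P) :
    ⁅a * u, ⁅a * u, y⁆⁆ * ⁅a, ⁅a, y⁆⁆⁻¹ ∈ ⁅P, P⁆ := by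
  obtain ⟨f, hf⟩ : ∃ f, f = ⁅u, y⁆ := ⟨_, rfl⟩
  have hfF : f ∈ Fr (Cfsg.pCore 3 Γ) := hf ▸ h.comm_QQ (hPQ hu) (hPQ hy)
  have hfP : f ∈ ⁅P, P⁆ := hf ▸ commutator_mem_commutator hu hy
  have hP' : ⁅P, P⁆ ≤ P := Subgroup.commutator_le_left P P
  have hay : ⁅a, y⁆ ∈ P := P.mul_mem (Normal.conj_mem inferInstance y hy a) (P.inv_mem hy)
  have e1 : ⁅a * u, y⁆ = f * ⁅a, y⁆ := by
    rw [comm_mul_conj, ← hf, (h.A_Fr a ha f hfF).eq, mul_inv_cancel_right]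
  rw [e1, comm_mul_conj a u, comm_conj_mul a f, commutatorElement_eq_one_iff_commute.2 (h.A_Fr a ha f hfF),
    one_mul]
  have hg : ⁅u, f * ⁅a, y⁆⁆ ∈ ⁅P, P⁆ := commutator_mem_commutator hu (P.mul_mem (hP' hfP) hay)
  have e2 : a * ⁅u, f * ⁅a, y⁆⁆ * a⁻¹ * (f * ⁅a, ⁅a, y⁆⁆ * f⁻¹) * ⁅a, ⁅a, y⁆⁆⁻¹ =
      (a * ⁅u, f * ⁅a, y⁆⁆ * a⁻¹) * (f * (⁅a, ⁅a, y⁆⁆ * f⁻¹ * ⁅a, ⁅a, y⁆⁆⁻¹)) := by group
  rw [e2]
  exact mul_mem (Normal.conj_mem inferInstance _ hg a)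
    (mul_mem hfP (Normal.conj_mem inferInstance _ (Subgroup.inv_mem _ hfP) _))

theorem cub_fix {a y : Γ} (ha : a ∈ A) (hy : y ∈ P) (h1 : ⁅a, y⁆ ∈ bW Γ ⊔ bD Γ) :
    ⁅a, ⁅a, y⁆⁆ ∈ bZ Γ := by
  haveI := h.normal_W
  haveI := h.normal_Z
  obtain ⟨r, hr, d, hdP, hd, rfl⟩ := h.split_P hRP hPQ hy
  obtain ⟨e, hc⟩ := h.comm_A_split hRP hPQ ha hr hdP hd
  rw [e, comm_conj_mul, commutatorElement_eq_one_iff_commute.2 (mem_center_iff.1 hc.1 a : Commute a ⁅a, d⁆),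
    mul_one, mul_inv_cancel, mul_one]
  by_cases haQ : a ∈ Q3
  · have hz := h.comm_QR haQ hr
    exact (bZ Γ).mul_mem (Normal.conj_mem inferInstance _ hz a) ((bZ Γ).inv_mem hz)
  haveI := h.normal_R
  have hmem : ⁅a, r⁆ ∈ bW Γ ⊔ bZ Γ := by
    refine h.mem_WZ ((bR Γ).mul_mem (Normal.conj_mem inferInstance r hr a) ((bR Γ).inv_mem hr)) ?_
    rw [e] at h1
    have h2 : ⁅a, d⁆ ∈ bD Γ := by
      haveI := h.normal_D
      exact (bD Γ).mul_mem (Normal.conj_mem inferInstance d hd a) ((bD Γ).inv_mem hd)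
    have h3 := mul_mem h1 (Subgroup.inv_mem _ (mem_sup_right h2 : ⁅a, d⁆ ∈ bW Γ ⊔ bD Γ))
    rwa [mul_inv_cancel_right] at h3
  obtain ⟨w, hw, c, hc', hct, rfl⟩ := h.line_split ((h.R_step.line_eq h.normal_R (h.A_le ha) haQ).1 r hr hmem)
  have hwline := (h.W_natural.line_eq h.normal_W (h.A_le ha) haQ).2.1 w hw
  have hac := hct a (h.A_le ha)
  rw [comm_conj_mul a w c, comm_conj_mul, commutatorElement_eq_one_iff_commute.2
    (mem_center_iff.1 (Subgroup.Normal.conj_mem inferInstance _ (h.Z_le_center hac) w) a :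
      Commute a (w * ⁅a, c⁆ * w⁻¹)), mul_one, mul_inv_cancel, mul_one]
  exact (bot_le : (⊥ : Subgroup Γ) ≤ bZ Γ) (hwline.2 a (h.A_le ha))

end Between

end Lay

end CfsgLib.PushAmalgam.TwoLayer
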