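import Cfsg.Agent.Lib.PushAmalgam.TwoLayer.Special

/-!
# Two natural layers: the data from a member with two natural steps
-/

set_option autoImplicit false
set_option linter.style.haveILetI false
set_option linter.unusedSectionVars false

open Subgroup
open scoped MatrixGroups commutatorElement Pointwise
open CfsgLib.PushUp (cj ctr Fr Sit)

namespace CfsgLib.PushAmalgam.TwoLayer

universe u

theorem exists_lay {F : Type} [Field F] [Fintype F] [CharP F 3] {B X : Type u} [Group B] [Finite B]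
    [Group X] [Finite X] (τ : B →* X) (hτ : Function.Injective τ) (sit : Sit 3 τ.range)
    (hd : ∀ Y : Subgroup B, Y ≠ ⊥ → Y.Characteristic → ¬ (Y.map τ).Normal)
    (hex : Exceptional 3 B) (hsh : ShapeTwo F 3 X) (hab : ∃ a b : B, ¬ Commute a ⁅a, b⁆) :
    ∃ V A A₀, Lay F τ.range V A A₀ := by
  classical
  haveI hQn := CfsgLib.PushUp.pCore_normal 3 X
  have hB : IsPGroup 3 B := hex.red.isp
  have hncl : ⁅frattini B, (⊤ : Subgroup B)⁆ ≠ ⊥ := by
    intro h0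
    obtain ⟨a, b, hab⟩ := hab
    have h1 := CfsgLib.Coprime.commutator_le_frattini hB (commutator_mem_commutator (mem_top a) (mem_top b))
    have h2 : ⁅⁅a, b⁆, a⁆ = 1 := mem_bot.1 (h0 ▸ commutator_mem_commutator h1 (mem_top a))
    exact hab (commutatorElement_eq_one_iff_commute.1 h2).symm
  haveI hnt : Nontrivial B := by
    obtain ⟨a, b, hab⟩ := hab
    by_contra h
    haveI := not_nontrivial_iff_subsingleton.1 h
    exact hab (Subsingleton.elim _ _)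
  obtain ⟨V, A, A₀, N⟩ := exists_nbr τ hτ sit hd hex hncl
  obtain ⟨S, hS⟩ : ∃ S, S = τ.range := ⟨_, rfl⟩
  rw [← hS]
  have hctr : ctr S = (center B).map τ := hS ▸ ctr_map_range hτ
  have good : Good 3 S (⊤ : Subgroup X) := by
    refine ⟨inferInstance, le_top, ?_, fun hc => ?_⟩
    · have := Sit.map_equiv sit (topEquiv (G := X)).symm
      convert this using 1
      rw [← hS]
      ext x
      exact ⟨fun hx => ⟨_, hx, rfl⟩, fun ⟨y, hy, e⟩ => e ▸ hy⟩
    · refine hd (center B) (center_ne_bot hB) inferInstance ⟨fun z hz g => ?_⟩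
      rw [← hctr] at hz ⊢
      rwa [mem_centralizer_iff.1 (hc hz) g (mem_top g), mul_inv_cancel_right]
  have mH : Mem 3 S (⊤ : Subgroup X) := ⟨hS ▸ hex.red.base_range hτ, good⟩
  have hQo : Qo 3 (⊤ : Subgroup X) = Cfsg.pCore 3 X := by
    rw [Qo, Cfsg.pCoreOf, ← pCore_map_equiv (topEquiv (G := X)).symm, map_map]
    convert Subgroup.map_id (Cfsg.pCore 3 X) using 2
    exact MonoidHom.ext fun _ => rfl
  have hVo : Vo 3 (⊤ : Subgroup X) = ctr (Cfsg.pCore 3 X) := by rw [Vo, hQo]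
  have hQS : Cfsg.pCore 3 X ≤ S := hS ▸ sit.pCore_le
  obtain ⟨P, hP⟩ : ∃ P, P = (Cfsg.pCore 3 X).comap τ := ⟨_, rfl⟩
  rw [← hP] at N
  have hPQ : P.map τ = Cfsg.pCore 3 X := hP ▸ map_comap_eq_self sit.pCore_le
  have hY : ctr (Cfsg.pCore 3 X) = (ctr P).map τ := by rw [← hPQ, CfsgLib.PushUp.ctr_map hτ]
  obtain ⟨P₀, hP₀⟩ := sit.sylow
  rw [← hS] at hP₀
  obtain ⟨hquot, hnat⟩ := natural_factors (Or.inr hsh)
  obtain ⟨e⟩ := hquot
  have hFrS : Fr S = (frattini B).map τ := by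
    rw [hS, MonoidHom.range_eq_map, CfsgLib.PushUp.Fr_map hτ, frattini_top]
  have hFrQ : ∀ f ∈ Fr (Cfsg.pCore 3 X), f ^ 3 = 1 := by
    intro f hf
    have h1 := Fr_mono (p := 3) (hS ▸ sit.isPGroup : IsPGroup 3 ↥S) hQS hf
    rw [hFrS] at h1
    obtain ⟨f', hf', rfl⟩ := h1
    rw [← map_pow, hex.frattini_elementary.2 f' hf', map_one]
  have hpull : ∀ {x : X}, x ∈ S → ∃ s, τ s = x := fun hx => hS.le hx
  have hmemS : ∀ s, τ s ∈ S := fun s => hS ▸ ⟨s, rfl⟩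
  have hcomm : ∀ {a b : B}, Commute (τ a) (τ b) → Commute a b := fun h =>
    hτ (by rw [map_mul, map_mul]; exact h)
  refine ⟨V.map τ, A.map τ, A₀.map τ,
    { syl := ⟨P₀, hP₀⟩
      sup_or := fun M hM => ?_
      self := sit.constr
      opp := ?_
      Y_card := ?_
      fixY := fun v hv a ha haQ hc => mH.facts.fix v (hVo ▸ hv) a ha (hQo ▸ haQ) hc
      Y_elem := fun v hv => mH.elemV (hVo ▸ hv)
      Fr_elem := hFrQ
      quot := ⟨e⟩
      natural := hnat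
      V_le := hPQ ▸ map_mono N.V_le
      ctr_le := hctr ▸ map_mono N.center_le
      V_comm := ?_
      V_elem := ?_
      V_card := by rw [hY, card_map_of_injective hτ, card_map_of_injective hτ, N.V_card]
      fix := ?_
      quad := ?_
      qq := ?_
      A_le := hS ▸ map_le_range τ A
      A_comm := ?_
      A_elem := ?_
      A_sup := ?_
      A_Fr := ?_
      A_P := ?_
      cube := ?_
      A₀_le := hS ▸ map_le_range τ A₀
      A₀_comm := ?_
      A₀_sup := ?_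
      A₀_self := ?_ }⟩
  · haveI := hM
    rw [hS]
    exact sit.sup_or M
  · obtain ⟨x, hx, hxe⟩ := good.exists_opp
    exact ⟨x, hxe, hVo ▸ mH.facts.supz x hx hxe⟩
  · have h1 := mH.facts.card_VQ
    rw [hVo, hQo, fS] at h1
    have h2 := relIndex_mul_relIndex ⊥ _ S bot_le hQS
    rw [relIndex_bot_left, relIndex_bot_left, ← hP₀, relIndex_of_quot P₀ e] at h2
    rw [← hP₀, ← h2] at h1
    refine Nat.eq_of_mul_eq_mul_right (Nat.card_pos (α := ↥(Cfsg.pCore 3 X))) ?_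
    rw [h1, hP₀]
    ring
  · rintro _ ⟨v, hv, rfl⟩ _ ⟨w, hw, rfl⟩
    exact (N.V_comm v hv w hw).map τ
  · rintro _ ⟨v, hv, rfl⟩
    rw [← map_pow, N.V_elem v hv, map_one]
  · rintro _ ⟨v, hv, rfl⟩ s hs hc
    obtain ⟨s, rfl⟩ := hpull hs
    refine (N.fix v hv s (hcomm hc)).imp (fun h => hctr ▸ mem_map_of_mem τ h) ?_
    rintro h _ ⟨w, hw, rfl⟩
    exact (h w hw).map τ
  · rintro _ ⟨v, hv, rfl⟩ s hs
    obtain ⟨s, rfl⟩ := hpull hs
    rw [hctr, ← map_commutatorElement]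
    exact mem_map_of_mem τ (N.quad v hv s)
  · intro s hs
    obtain ⟨s, rfl⟩ := hpull hs
    obtain ⟨a, ha, c, hc, rfl⟩ := N.qq s
    exact ⟨τ a, hPQ ▸ mem_map_of_mem τ ha, τ c, hmemS c,
      fun w ⟨w', hw', e'⟩ => e' ▸ (hc w' hw').map τ, map_mul τ a c⟩
  · rintro _ ⟨v, hv, rfl⟩ _ ⟨w, hw, rfl⟩
    exact (N.A_comm v hv w hw).map τ
  · rintro _ ⟨v, hv, rfl⟩
    rw [← map_pow, N.A_elem v hv, map_one]
  · intro s hs
    obtain ⟨s, rfl⟩ := hpull hs
    obtain ⟨a, ha, c, hc, rfl⟩ := N.A_sup s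
    exact ⟨τ a, mem_map_of_mem τ ha, τ c, hPQ ▸ mem_map_of_mem τ hc, map_mul τ a c⟩
  · rintro _ ⟨a, ha, rfl⟩ f hf
    rw [← hPQ, CfsgLib.PushUp.Fr_map hτ] at hf
    obtain ⟨f, hf, rfl⟩ := hf
    exact (N.A_Fr a ha f hf).map τ
  · intro c hc
    rintro _ ⟨a, ha, rfl⟩
    rw [← hPQ] at hc
    obtain ⟨c, hc, rfl⟩ := hc
    rw [hY, ← Subgroup.map_sup, ← map_commutatorElement]
    exact mem_map_of_mem τ (N.A_P c hc a ha)
  · obtain ⟨n, hn, y, hy, v, hv, e1, e2⟩ := N.cube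
    refine ⟨τ n, mem_map_of_mem τ hn, τ y, hPQ ▸ mem_map_of_mem τ hy, τ v, hY ▸ mem_map_of_mem τ hv,
      by rw [← map_commutatorElement, ← map_commutatorElement, ← map_commutatorElement, e1], fun h => e2 ?_⟩
    rw [← map_commutatorElement, map_eq_one_iff τ hτ] at h
    exact h
  · rintro _ ⟨v, hv, rfl⟩ _ ⟨w, hw, rfl⟩
    exact (N.A₀_comm v hv w hw).map τ
  · intro s hs
    obtain ⟨s, rfl⟩ := hpull hs
    obtain ⟨a, ha, c, hc, rfl⟩ := N.A₀_sup s
    exact ⟨τ a, mem_map_of_mem τ ha, τ c, hPQ ▸ mem_map_of_mem τ hc, map_mul τ a c⟩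
  · intro s hs hx
    obtain ⟨s, rfl⟩ := hpull hs
    have hmap : A₀.map τ ⊓ Cfsg.pCore 3 X ⊔ ctr (Cfsg.pCore 3 X) = (A₀ ⊓ P ⊔ ctr P).map τ := by
      rw [Subgroup.map_sup, map_inf _ _ _ hτ, hPQ, hY]
    rw [hmap] at hx ⊢
    exact mem_map_of_mem τ (N.A₀_self s fun x hxm => hcomm (hx _ (mem_map_of_mem τ hxm)))

end CfsgLib.PushAmalgam.TwoLayer
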