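import Cfsg.Agent.Lib.PushAmalgam.Neighbour
import Cfsg.Agent.Lib.PushAmalgam.SLThree
import Cfsg.Agent.Lib.Fusion.Residual
import Cfsg.Agent.Lib.Fusion.Transfer

/-!
# Two natural layers: the data and natural steps

`Γ` has a Sylow `3`-subgroup `S` in the pushing-up situation with a neighbour as in `Nbr`. A step is a pair of
normal subgroups of `O_3(Γ)` with natural quotient, presented so that `S` induces the upper root group.
-/

set_option autoImplicit false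
set_option linter.style.haveILetI false
set_option linter.unusedSectionVars false

open Subgroup
open scoped MatrixGroups commutatorElement Pointwise
open CfsgLib.PushUp (cj mem_cj ctr Fr)
open CfsgLib.PushUpTwo (up upGroup up_val up_mem eq_up_of_mem)

namespace CfsgLib.PushAmalgam.TwoLayer

universe u

variable {Γ : Type u} [Group Γ]

local notation "Q3" => Cfsg.pCore 3 Γ
local notation "K3" => Cfsg.pResidual 3 Γ

/-- The hypotheses. -/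
structure Lay (F : Type) [Field F] [Fintype F] (S V A A₀ : Subgroup Γ) : Prop where
  syl : ∃ P₀ : Sylow 3 Γ, (P₀ : Subgroup Γ) = S
  sup_or : ∀ N : Subgroup Γ, N.Normal → S ⊓ N ≤ Cfsg.pCore 3 Γ ∨ N ⊔ S = ⊤
  self : centralizer (Cfsg.pCore 3 Γ : Set Γ) ≤ Cfsg.pCore 3 Γ
  opp : ∃ g, S ⊔ cj g S = ⊤ ∧ ctr S ⊔ cj g (ctr S) = ctr (Cfsg.pCore 3 Γ)
  Y_card : Nat.card ↥(ctr (Cfsg.pCore 3 Γ)) = Nat.card ↥(ctr S) * Fintype.card F
  fixY : ∀ v ∈ ctr (Cfsg.pCore 3 Γ), ∀ a ∈ S, a ∉ Cfsg.pCore 3 Γ → Commute a v → v ∈ ctr S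
  Y_elem : ∀ v ∈ ctr (Cfsg.pCore 3 Γ), v ^ 3 = 1
  Fr_elem : ∀ f ∈ Fr (Cfsg.pCore 3 Γ), f ^ 3 = 1
  quot : Nonempty (Γ ⧸ Cfsg.pCore 3 Γ ≃* SL(2, F))
  natural : ∀ (U W : Subgroup Γ) [W.Normal], U ≤ Cfsg.pCore 3 Γ → Cfsg.IsChiefFactor U W →
    ¬ ⁅U, (⊤ : Subgroup Γ)⁆ ≤ W →
    Cfsg.IsNaturalSL2Module F (U.map (QuotientGroup.mk' W)) (⊤ : Subgroup (Γ ⧸ W))
  V_le : V ≤ Cfsg.pCore 3 Γ
  ctr_le : ctr S ≤ V
  V_comm : ∀ v ∈ V, ∀ w ∈ V, Commute v w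
  V_elem : ∀ v ∈ V, v ^ 3 = 1
  V_card : Nat.card ↥V = Nat.card ↥(ctr (Cfsg.pCore 3 Γ))
  fix : ∀ v ∈ V, ∀ s ∈ S, Commute s v → v ∈ ctr S ∨ ∀ w ∈ V, Commute w s
  quad : ∀ v ∈ V, ∀ s ∈ S, ⁅s, v⁆ ∈ ctr S
  qq : ∀ s ∈ S, ∃ a ∈ Cfsg.pCore 3 Γ, ∃ c ∈ S, (∀ w ∈ V, Commute w c) ∧ s = a * c
  A_le : A ≤ S
  A_comm : ∀ a ∈ A, ∀ b ∈ A, Commute a b
  A_elem : ∀ a ∈ A, a ^ 3 = 1
  A_sup : ∀ s ∈ S, ∃ a ∈ A, ∃ c ∈ Cfsg.pCore 3 Γ, s = a * c
  A_Fr : ∀ a ∈ A, ∀ f ∈ Fr (Cfsg.pCore 3 Γ), Commute a f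
  A_P : ∀ c ∈ Cfsg.pCore 3 Γ, ∀ a ∈ A, ⁅c, a⁆ ∈ V ⊔ ctr (Cfsg.pCore 3 Γ)
  cube : ∃ n ∈ A, ∃ y ∈ Cfsg.pCore 3 Γ, ∃ v ∈ ctr (Cfsg.pCore 3 Γ), ⁅n, ⁅n, y⁆⁆ = ⁅n, v⁆ ∧ ⁅n, v⁆ ≠ 1
  A₀_le : A₀ ≤ S
  A₀_comm : ∀ a ∈ A₀, ∀ b ∈ A₀, Commute a b
  A₀_sup : ∀ s ∈ S, ∃ a ∈ A₀, ∃ c ∈ Cfsg.pCore 3 Γ, s = a * c
  A₀_self : ∀ s ∈ S, (∀ x ∈ A₀ ⊓ Cfsg.pCore 3 Γ ⊔ ctr (Cfsg.pCore 3 Γ), Commute x s) →
    s ∈ A₀ ⊓ Cfsg.pCore 3 Γ ⊔ ctr (Cfsg.pCore 3 Γ)

variable {F : Type} [Field F] [Fintype F] [CharP F 3] {S V A A₀ : Subgroup Γ}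

/-- A natural step with `S` inducing the upper root group. -/
def Step (F : Type) [Field F] [Fintype F] (S U W : Subgroup Γ) : Prop :=
  W ≤ U ∧ ∃ (ρ : Γ →* SL(2, F)) (ψ : ↥U →* Multiplicative (Fin 2 → F)),
    Function.Surjective ρ ∧ ρ.ker = Cfsg.pCore 3 Γ ∧ S.map ρ = upGroup F ∧ Function.Surjective ψ ∧
    (∀ u : ↥U, ψ u = 1 ↔ (u : Γ) ∈ W) ∧
    ∀ (g : Γ) (v w : ↥U), (w : Γ) = g * v * g⁻¹ →
      Multiplicative.toAdd (ψ w) =
        ((ρ g : SL(2, F)) : Matrix (Fin 2) (Fin 2) F).mulVec (Multiplicative.toAdd (ψ v))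

/-- The elements fixed modulo `W` by `S`. -/
def Line (S U W : Subgroup Γ) : Set Γ := {u | u ∈ U ∧ ∀ t ∈ S, ⁅t, u⁆ ∈ W}

instance instFact : Fact (Nat.Prime 3) := ⟨Nat.prime_three⟩

/-- A Sylow subgroup maps onto a conjugate of the root group. -/
theorem exists_up_of [Finite Γ] (P₀ : Sylow 3 Γ) (ρ : Γ →* SL(2, F)) (hρ : Function.Surjective ρ) :
    ∃ g : SL(2, F), ((P₀ : Subgroup Γ).map ρ).map (MulAut.conj g).toMonoidHom = upGroup F := by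
  classical
  obtain ⟨k, -, hk⟩ := FiniteField.card F 3
  obtain ⟨k, hk⟩ : ∃ k' : ℕ, Fintype.card F = 3 ^ k' := ⟨k, hk⟩
  have hU : IsPGroup 3 ↥(upGroup F) :=
    IsPGroup.of_card (n := k) (by rw [CfsgLib.PushUpTwo.card_upGroup, Nat.card_eq_fintype_card, hk])
  obtain ⟨Q, hQ⟩ := hU.exists_le_sylow
  obtain ⟨a, ha⟩ := IsPGroup.iff_card.1 Q.2
  have hdvd : Nat.card ↥(Q : Subgroup SL(2, F)) ∣ Fintype.card F := by
    have h1 := Subgroup.card_subgroup_dvd_card (Q : Subgroup SL(2, F))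
    rw [CfsgLib.Classical.card_sl2, hk] at h1
    rw [ha] at h1 ⊢
    rw [hk]
    refine Nat.Coprime.dvd_of_dvd_mul_right ?_ h1
    rcases Nat.eq_zero_or_pos k with rfl | hk0
    · exact absurd ((pow_zero 3).symm ▸ hk) (Fintype.one_lt_card (α := F)).ne'
    refine Nat.Coprime.pow_left a ((Nat.Prime.coprime_iff_not_dvd Nat.prime_three).2 fun hd => ?_)
    have h3 : 3 ∣ 3 ^ k := dvd_pow_self 3 hk0.ne'
    have h1' : 1 ≤ 3 ^ k := Nat.one_le_pow _ _ (by norm_num)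
    rcases (Nat.prime_three.dvd_mul).1 hd with hd | hd <;> omega
  have heq : upGroup F = Q := eq_of_le_of_card_ge hQ (by
    rw [CfsgLib.PushUpTwo.card_upGroup, Nat.card_eq_fintype_card (α := F)]
    exact Nat.le_of_dvd Fintype.card_pos hdvd)
  obtain ⟨g, hg⟩ := MulAction.exists_smul_eq SL(2, F) (P₀.mapSurjective hρ) Q
  refine ⟨g, ?_⟩
  have e := congrArg (fun R : Sylow 3 SL(2, F) => (R : Subgroup SL(2, F))) hg
  simp only [Sylow.coe_subgroup_smul, Sylow.coe_mapSurjective] at e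
  rw [heq]
  exact e

/-- The index of `O_3` in a Sylow subgroup. -/
theorem relIndex_of_quot [Finite Γ] (P₀ : Sylow 3 Γ) (e : Γ ⧸ Cfsg.pCore 3 Γ ≃* SL(2, F))
    [(Cfsg.pCore 3 Γ).Normal] : (Cfsg.pCore 3 Γ).relIndex (P₀ : Subgroup Γ) = Fintype.card F := by
  obtain ⟨ρ, hρ⟩ : ∃ ρ, ρ = e.toMonoidHom.comp (QuotientGroup.mk' (Cfsg.pCore 3 Γ)) := ⟨_, rfl⟩
  have hρs : Function.Surjective ρ := hρ ▸ e.surjective.comp (QuotientGroup.mk'_surjective _)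
  have hker : ρ.ker = Cfsg.pCore 3 Γ := by
    rw [hρ]
    ext x
    simp [MonoidHom.mem_ker]
  obtain ⟨g, hg⟩ := exists_up_of P₀ ρ hρs
  have h1 := relIndex_ker (K := (P₀ : Subgroup Γ)) ρ
  rw [hker, ← card_map_of_injective (f := (MulAut.conj g).toMonoidHom) (MulAut.conj g).injective, hg,
    CfsgLib.PushUpTwo.card_upGroup, Nat.card_eq_fintype_card] at h1
  exact h1

namespace Lay

variable [Finite Γ] (h : Lay F S V A A₀)
include h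

theorem isP : IsPGroup 3 ↥S := by
  obtain ⟨P₀, rfl⟩ := h.syl
  exact P₀.2

theorem Q_le : Q3 ≤ S := by
  obtain ⟨P₀, rfl⟩ := h.syl
  exact CfsgLib.PGroup.pCore_le_sylow P₀

theorem normalQ : (Cfsg.pCore 3 Γ).Normal := CfsgLib.PushUp.pCore_normal 3 Γ

theorem exists_k : ∃ k : ℕ, Fintype.card F = 3 ^ k := by
  obtain ⟨n, -, hn⟩ := FiniteField.card F 3
  exact ⟨n, hn⟩

theorem card_quot : Nat.card Γ = Nat.card ↥(Cfsg.pCore 3 Γ) * Nat.card SL(2, F) := by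
  haveI := h.normalQ
  obtain ⟨e⟩ := h.quot
  rw [card_eq_card_quotient_mul_card_subgroup (Cfsg.pCore 3 Γ), Nat.card_congr e.toEquiv, mul_comm]

theorem ker_eq (ρ : Γ →* SL(2, F)) (hρ : Function.Surjective ρ) (hP : Q3 ≤ ρ.ker) :
    ρ.ker = Cfsg.pCore 3 Γ := by
  refine (eq_of_le_of_card_ge hP ?_).symm
  have e := card_eq_card_quotient_mul_card_subgroup ρ.ker
  rw [Nat.card_congr (QuotientGroup.quotientKerEquivOfSurjective ρ hρ).toEquiv, h.card_quot,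
    mul_comm] at e
  exact (Nat.eq_of_mul_eq_mul_left Nat.card_pos e).ge

theorem exists_up (ρ : Γ →* SL(2, F)) (hρ : Function.Surjective ρ) :
    ∃ g : SL(2, F), (S.map ρ).map (MulAut.conj g).toMonoidHom = upGroup F := by
  obtain ⟨P₀, rfl⟩ := h.syl
  exact exists_up_of P₀ ρ hρ

/-- A noncentral quotient of order at most `q²` is a step. -/
theorem step_of_card {U W : Subgroup Γ} (hU : U.Normal) (hW : W.Normal) (hWU : W ≤ U) (hUQ : U ≤ Q3)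
    (hne : ¬ U ≤ W) (hgen : U ≤ ⁅U, K3⁆ ⊔ W) (hP : ⁅U, Cfsg.pCore 3 Γ⁆ ≤ W)
    (hcard : W.relIndex U ≤ Fintype.card F ^ 2) : Step F S U W := by
  classical
  obtain ⟨N, hWN, hN⟩ := exists_maximal_ge_of_wellFoundedGT
    (fun N : Subgroup Γ => N.Normal ∧ N < U) W ⟨hW, lt_of_le_not_ge hWU hne⟩
  obtain ⟨hNn, hNU⟩ := hN.prop
  haveI := hNn
  haveI := hU
  haveI := h.normalQ
  have hchief : Cfsg.IsChiefFactor U N := ⟨hNU, hU, hNn, fun N' hN' h1 h2 =>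
    (h2.lt_or_eq).elim (fun hlt => Or.inl (hN.eq_of_le ⟨hN', hlt⟩ h1).symm) Or.inr⟩
  have hnc : ¬ ⁅U, (⊤ : Subgroup Γ)⁆ ≤ N := fun hc => hNU.not_ge
    (hgen.trans (sup_le ((commutator_mono le_rfl le_top).trans hc) hWN))
  obtain ⟨-, ρ₀, ψ₀, hρ₀, hker₀, heq₀⟩ := h.natural U N hUQ hchief hnc
  have hidx : N.relIndex U = Fintype.card F ^ 2 := by
    have h1 := Subgroup.relIndex_ker (K := U) (QuotientGroup.mk' N)
    rw [QuotientGroup.ker_mk'] at h1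
    rw [h1, show Nat.card ↥(U.map (QuotientGroup.mk' N)) =
      Nat.card (Additive ↥(U.map (QuotientGroup.mk' N))) from rfl, Nat.card_congr ψ₀.toEquiv,
      Nat.card_fun, Nat.card_eq_fintype_card, Nat.card_eq_fintype_card, Fintype.card_fin]
  have hNW : N = W := by
    refine le_antisymm (Subgroup.relIndex_eq_one.1 ?_) hWN
    have h1 := Subgroup.relIndex_mul_relIndex W N U hWN hNU.le
    rw [hidx] at h1
    rcases Nat.lt_or_ge 1 (W.relIndex N) with h2 | h2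
    · exfalso
      have h0 : 0 < Fintype.card F ^ 2 := pow_pos Fintype.card_pos 2
      nlinarith
    · have : W.relIndex N ≠ 0 := Subgroup.index_ne_zero_of_finite
      omega
  subst hNW
  obtain ⟨π, hπ⟩ : ∃ π : Γ →* ↥(⊤ : Subgroup (Γ ⧸ N)), ∀ x, (π x : Γ ⧸ N) = QuotientGroup.mk' N x :=
    ⟨Subgroup.topEquiv.symm.toMonoidHom.comp (QuotientGroup.mk' N), fun _ => rfl⟩
  have hπs : Function.Surjective π := fun y => by
    obtain ⟨x, hx⟩ := QuotientGroup.mk'_surjective N (y : Γ ⧸ N)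
    exact ⟨x, Subtype.ext ((hπ x).trans hx)⟩
  have hker : Q3 ≤ (ρ₀.comp π).ker := by
    intro x hx
    have : π x ∈ ρ₀.ker := by
      rw [hker₀, mem_subgroupOf, hπ, mem_centralizer_iff]
      rintro _ ⟨u, hu, rfl⟩
      rw [← map_mul, ← map_mul, QuotientGroup.mk'_apply, QuotientGroup.mk'_apply, QuotientGroup.eq]
      have := hP (commutator_mem_commutator (inv_mem hu) (inv_mem hx))
      rw [commutatorElement_def] at this
      have e : (u * x)⁻¹ * (x * u) = x⁻¹ * u⁻¹ * x * u := by group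
      rw [e]
      have := hNn.conj_mem _ (inv_mem this) 1
      simpa [mul_assoc] using this
    exact MonoidHom.mem_ker.2 this
  obtain ⟨g, hg⟩ := h.exists_up (ρ₀.comp π) (hρ₀.comp hπs)
  obtain ⟨ι, hι⟩ : ∃ ι : ↥U →* ↥(U.map (QuotientGroup.mk' N)), ∀ u, (ι u : Γ ⧸ N) = QuotientGroup.mk' N u :=
    ⟨(QuotientGroup.mk' N).subgroupMap U, fun _ => rfl⟩
  have hιs : Function.Surjective ι := by
    rintro ⟨_, u, hu, rfl⟩
    exact ⟨⟨u, hu⟩, Subtype.ext (hι _)⟩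
  refine ⟨hWU, (MulAut.conj g).toMonoidHom.comp (ρ₀.comp π),
    MonoidHom.mk' (fun u => Multiplicative.ofAdd (g.1.mulVec (ψ₀ (Additive.ofMul (ι u))))) (fun a b => ?_),
    (MulAut.conj g).surjective.comp (hρ₀.comp hπs), ?_, ?_, ?_, fun u => ?_, fun x v w hw => ?_⟩
  · rw [← ofAdd_add, ← Matrix.mulVec_add, map_mul, ofMul_mul, map_add]
  · rw [← h.ker_eq _ (hρ₀.comp hπs) hker]
    ext x
    simp only [MonoidHom.mem_ker, MonoidHom.comp_apply, MulEquiv.coe_toMonoidHom, EmbeddingLike.map_eq_one_iff]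
  · rw [← Subgroup.map_map, hg]
  · intro z
    obtain ⟨a, ha⟩ := ψ₀.surjective ((g⁻¹).1.mulVec (Multiplicative.toAdd z))
    obtain ⟨u, hu⟩ := hιs (Additive.toMul a)
    refine ⟨u, ?_⟩
    rw [MonoidHom.mk'_apply, hu, ofMul_toMul, ha, Matrix.mulVec_mulVec,
      ← Matrix.SpecialLinearGroup.coe_mul, mul_inv_cancel, Matrix.SpecialLinearGroup.coe_one,
      Matrix.one_mulVec, ofAdd_toAdd]
  · rw [MonoidHom.mk'_apply, ofAdd_eq_one]
    have hinj : ∀ a : Fin 2 → F, g.1.mulVec a = 0 ↔ a = 0 := fun a => by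
      refine ⟨fun ha => ?_, fun ha => by rw [ha, Matrix.mulVec_zero]⟩
      have := congrArg (g⁻¹).1.mulVec ha
      rwa [Matrix.mulVec_mulVec, ← Matrix.SpecialLinearGroup.coe_mul, inv_mul_cancel,
        Matrix.SpecialLinearGroup.coe_one, Matrix.one_mulVec, Matrix.mulVec_zero] at this
    rw [hinj, EmbeddingLike.map_eq_zero_iff, ofMul_eq_zero, ← SetLike.coe_eq_coe, hι, OneMemClass.coe_one,
      QuotientGroup.mk'_apply, QuotientGroup.eq_one_iff]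
  · obtain ⟨w', hw', e⟩ := heq₀ (π x) (ι v)
    have ew : w' = ι w := Subtype.ext (by
      rw [hw', hι, hι, hπ, hw, map_mul, map_mul, map_inv])
    rw [ew] at e
    simp only [MonoidHom.mk'_apply, toAdd_ofAdd, MonoidHom.comp_apply, MulEquiv.coe_toMonoidHom,
      MulAut.conj_apply]
    rw [e, Matrix.mulVec_mulVec, Matrix.mulVec_mulVec, ← Matrix.SpecialLinearGroup.coe_mul,
      ← Matrix.SpecialLinearGroup.coe_mul, inv_mul_cancel_right]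

/-- An involution maps to `-1`. -/
theorem rho_invol {ρ : Γ →* SL(2, F)} (hker : ρ.ker = Cfsg.pCore 3 Γ) {j : Γ} (hj : j * j = 1)
    (hj1 : j ≠ 1) : ((ρ j : SL(2, F)) : Matrix (Fin 2) (Fin 2) F) = -1 := by
  rcases SLThree.eq_one_or_neg_one (x := ρ j) (by rw [← map_mul, hj, map_one]) with h1 | h1
  · exfalso
    obtain ⟨k, hk⟩ := CfsgLib.Coprime.pCore_isPGroup 3 (G := Γ) ⟨j, hker ▸ MonoidHom.mem_ker.2 h1⟩
    have h2 : j ^ 3 ^ k = 1 := congrArg Subtype.val hk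
    obtain ⟨i, hi⟩ : Odd (3 ^ k) := Odd.pow (by decide)
    rw [hi, pow_succ, pow_mul, pow_two, hj, one_pow, one_mul] at h2
    exact hj1 h2
  · exact h1

end Lay

namespace Step

variable [Finite Γ] {U W : Subgroup Γ} (st : Step F S U W)
include st

theorem le : W ≤ U := st.1

/-- An involution inverts the quotient. -/
theorem invert (h : Lay F S V A A₀) (hU : U.Normal) {j u : Γ} (hj : j * j = 1) (hj1 : j ≠ 1)
    (hu : u ∈ U) : u * (j * u * j⁻¹) ∈ W := by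
  obtain ⟨-, ρ, ψ, -, hker, -, -, hψ1, heq⟩ := st
  have h1 := heq j ⟨u, hu⟩ ⟨_, hU.conj_mem u hu j⟩ rfl
  rw [h.rho_invol hker hj hj1, Matrix.neg_mulVec, Matrix.one_mulVec] at h1
  refine (hψ1 (⟨u, hu⟩ * ⟨_, hU.conj_mem u hu j⟩)).1 ?_
  rw [map_mul, ← toAdd_eq_zero, toAdd_mul, h1, add_neg_cancel]

/-- An element fixed modulo `W` lies in `W`. -/
theorem mem_of_fixed (h : Lay F S V A A₀) (hU : U.Normal) {j u : Γ} (hj : j * j = 1) (hj1 : j ≠ 1)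
    (hu : u ∈ U) (hc : ⁅j, u⁆ ∈ W) : u ∈ W := by
  obtain ⟨hWU, ρ, ψ, -, hker, -, -, hψ1, heq⟩ := st
  have h1 := heq j ⟨u, hu⟩ ⟨_, hU.conj_mem u hu j⟩ rfl
  rw [h.rho_invol hker hj hj1, Matrix.neg_mulVec, Matrix.one_mulVec] at h1
  have h2 : ψ (⟨_, hU.conj_mem u hu j⟩ * (⟨u, hu⟩ : ↥U)⁻¹) = 1 := (hψ1 _).2 hc
  rw [map_mul, map_inv, mul_inv_eq_one] at h2
  rw [h2] at h1
  refine (hψ1 ⟨u, hu⟩).1 (toAdd_eq_zero.1 ?_)
  funext i
  have h3 := congrFun h1 i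
  rw [Pi.neg_apply, eq_neg_iff_add_eq_zero, ← two_mul] at h3
  exact (mul_eq_zero.1 h3).resolve_left SLThree.two_ne

/-- Nothing normal lies strictly between. -/
theorem between (hU : U.Normal) (hW : W.Normal) (hUQ : U ≤ Q3) {N : Subgroup Γ} (hN : N.Normal)
    (h1 : W ≤ N) (h2 : N ≤ U) : N = W ∨ N = U := by
  obtain ⟨hWU, ρ, ψ, hρ, hker, -, hψ, hψ1, heq⟩ := st
  exact NatStep.between (p := 3) ⟨hWU, hUQ, hU, hW, ρ, ψ, hρ, hker, hψ, hψ1, heq⟩ hN h1 h2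

/-- The quotient has order `q²`. -/
theorem relIndex_eq : W.relIndex U = Fintype.card F ^ 2 := by
  obtain ⟨hWU, ρ, ψ, -, -, -, hψ, hψ1, -⟩ := st
  have hk : ψ.ker = W.subgroupOf U := Subgroup.ext fun u => hψ1 u
  have h1 := Subgroup.relIndex_ker (K := ⊤) ψ
  rw [hk, relIndex_top_right, Subgroup.map_top_of_surjective ψ hψ, card_top] at h1
  show (W.subgroupOf U).index = _
  rw [h1, show Nat.card (Multiplicative (Fin 2 → F)) = Nat.card (Fin 2 → F) from rfl, Nat.card_fun,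
    Nat.card_eq_fintype_card, Nat.card_eq_fintype_card, Fintype.card_fin]

/-- The line is a subgroup between `W` and `U` of index `q` over `W`. -/
theorem exists_line (hU : U.Normal) : ∃ L : Subgroup Γ, (∀ u, u ∈ L ↔ u ∈ Line S U W) ∧ W ≤ L ∧
    L ≤ U ∧ W.relIndex L = Fintype.card F := by
  classical
  obtain ⟨hWU, ρ, ψ, hρ, hker, hS, hψ, hψ1, heq⟩ := st
  obtain ⟨ℓ, hℓ⟩ : ∃ ℓ : AddSubgroup (Fin 2 → F), ∀ x, x ∈ ℓ ↔ x 1 = 0 :=
    ⟨(Pi.evalAddMonoidHom (fun _ => F) 1).ker, fun _ => Iff.rfl⟩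
  obtain ⟨L', hL'⟩ : ∃ L' : Subgroup ↥U, L' = (AddSubgroup.toSubgroup ℓ).comap ψ := ⟨_, rfl⟩
  have hmem : ∀ u : ↥U, u ∈ L' ↔ Multiplicative.toAdd (ψ u) 1 = 0 := fun u => by
    rw [hL']; exact hℓ _
  have key : ∀ u : ↥U, u ∈ L' ↔ ∀ t ∈ S, ⁅t, (u : Γ)⁆ ∈ W := by
    intro u
    have hcm : ∀ t : Γ, ⁅t, (u : Γ)⁆ ∈ W ↔
        (ρ t).1.mulVec (Multiplicative.toAdd (ψ u)) = Multiplicative.toAdd (ψ u) := by
      intro t
      have h1 := heq t u ⟨_, hU.conj_mem _ u.2 t⟩ rfl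
      have h2 := hψ1 (⟨_, hU.conj_mem _ u.2 t⟩ * u⁻¹)
      rw [map_mul, map_inv, mul_inv_eq_one] at h2
      rw [← h1]
      exact ⟨fun hc => congrArg Multiplicative.toAdd (h2.2 hc),
        fun hc => h2.1 (Multiplicative.toAdd.injective hc)⟩
    rw [hmem]
    constructor
    · intro h0 t ht
      rw [hcm]
      have hm : ρ t ∈ upGroup F := hS ▸ mem_map_of_mem ρ ht
      rw [eq_up_of_mem hm, up_val]
      ext i
      fin_cases i <;> simp [Matrix.mulVec, dotProduct, Fin.sum_univ_two, h0]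
    · intro h0
      obtain ⟨t, ht, htu⟩ : up (1 : F) ∈ S.map ρ := hS ▸ up_mem 1
      have h1 := congrFun ((hcm t).1 (h0 t ht)) 0
      rw [htu, up_val] at h1
      simpa [Matrix.mulVec, dotProduct, Fin.sum_univ_two] using h1
  refine ⟨L'.map U.subtype, fun u => ?_, fun w hw => ?_, map_subtype_le _, ?_⟩
  · constructor
    · rintro ⟨u, hu, rfl⟩
      exact ⟨u.2, (key u).1 hu⟩
    · rintro ⟨hu, hc⟩
      exact ⟨⟨u, hu⟩, (key ⟨u, hu⟩).2 hc, rfl⟩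
  · refine ⟨⟨w, hWU hw⟩, (hmem _).2 ?_, rfl⟩
    rw [(hψ1 ⟨w, hWU hw⟩).2 hw]
    rfl
  · have hk : ψ.ker = W.subgroupOf U := Subgroup.ext fun u => hψ1 u
    have h1 := Subgroup.relIndex_ker (K := L') ψ
    rw [hk] at h1
    have h2 : W.relIndex (L'.map U.subtype) = (W.subgroupOf U).relIndex L' := by
      rw [← relIndex_map_map_of_injective (W.subgroupOf U) L' U.subtype_injective,
        map_subgroupOf_eq_of_le hWU]
    rw [h2, h1, hL', map_comap_eq_self_of_surjective hψ, ← Nat.card_eq_fintype_card]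
    refine Nat.card_congr ⟨fun x => Multiplicative.toAdd (x : Multiplicative (Fin 2 → F)) 0,
      fun a => ⟨Multiplicative.ofAdd ![a, 0], (hℓ ![a, 0]).2 rfl⟩, fun x => ?_, fun a => rfl⟩
    refine Subtype.ext (Multiplicative.toAdd.injective ?_)
    funext i
    fin_cases i
    · rfl
    · exact ((hℓ (Multiplicative.toAdd (x : Multiplicative (Fin 2 → F)))).1 x.2).symm

/-- An element outside `O_3(Γ)` moves `U` onto the line and fixes only the line. -/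
theorem line_eq (hU : U.Normal) {a : Γ} (ha : a ∈ S) (haQ : a ∉ Q3) :
    (∀ u ∈ U, ⁅a, u⁆ ∈ W → u ∈ Line S U W) ∧ (∀ u ∈ U, ⁅a, u⁆ ∈ Line S U W) ∧
      ∀ l ∈ Line S U W, ∃ u ∈ U, ⁅a, u⁆⁻¹ * l ∈ W := by
  classical
  obtain ⟨hWU, ρ, ψ, hρ, hker, hS, hψ, hψ1, heq⟩ := st
  obtain ⟨s, hs0, hs⟩ : ∃ s : F, s ≠ 0 ∧ ρ a = up s := by
    have hm : ρ a ∈ upGroup F := hS ▸ mem_map_of_mem ρ ha
    refine ⟨_, fun h0 => haQ ?_, eq_up_of_mem hm⟩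
    rw [← hker, MonoidHom.mem_ker, eq_up_of_mem hm, h0]
    exact up_zero
  have hc : ∀ (u : Γ) (hu : u ∈ U), ∃ hm : ⁅a, u⁆ ∈ U,
      Multiplicative.toAdd (ψ ⟨⁅a, u⁆, hm⟩) = ![s * Multiplicative.toAdd (ψ ⟨u, hu⟩) 1, 0] := by
    intro u hu
    refine ⟨mul_mem (hU.conj_mem u hu a) (inv_mem hu), ?_⟩
    have h1 := heq a ⟨u, hu⟩ ⟨_, hU.conj_mem u hu a⟩ rfl
    rw [show (⟨⁅a, u⁆, _⟩ : ↥U) = ⟨_, hU.conj_mem u hu a⟩ * (⟨u, hu⟩ : ↥U)⁻¹ from Subtype.ext rfl,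
      map_mul, map_inv, toAdd_mul, toAdd_inv, h1, hs, up_val]
    funext i
    fin_cases i <;> simp [Matrix.mulVec, dotProduct, Fin.sum_univ_two]
  have hline : ∀ (u : Γ) (hu : u ∈ U), u ∈ Line S U W ↔ Multiplicative.toAdd (ψ ⟨u, hu⟩) 1 = 0 := by
    intro u hu
    have hcm : ∀ t : Γ, ⁅t, u⁆ ∈ W ↔ (ρ t).1.mulVec (Multiplicative.toAdd (ψ ⟨u, hu⟩)) =
        Multiplicative.toAdd (ψ ⟨u, hu⟩) := by
      intro t
      have h1 := heq t ⟨u, hu⟩ ⟨_, hU.conj_mem u hu t⟩ rfl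
      have h2 := hψ1 (⟨_, hU.conj_mem u hu t⟩ * (⟨u, hu⟩ : ↥U)⁻¹)
      rw [map_mul, map_inv, mul_inv_eq_one] at h2
      rw [← h1]
      exact ⟨fun hc => congrArg Multiplicative.toAdd (h2.2 hc),
        fun hc => h2.1 (Multiplicative.toAdd.injective hc)⟩
    constructor
    · intro hL
      have h1 := congrFun ((hcm a).1 (hL.2 a ha)) 0
      rw [hs, up_val] at h1
      simpa [Matrix.mulVec, dotProduct, Fin.sum_univ_two, hs0] using h1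
    · intro h0
      refine ⟨hu, fun t ht => (hcm t).2 ?_⟩
      have hm : ρ t ∈ upGroup F := hS ▸ mem_map_of_mem ρ ht
      rw [eq_up_of_mem hm, up_val]
      ext i
      fin_cases i <;> simp [Matrix.mulVec, dotProduct, Fin.sum_univ_two, h0]
  refine ⟨fun u hu hw => ?_, fun u hu => ?_, fun l hl => ?_⟩
  · obtain ⟨hm, e⟩ := hc u hu
    rw [hline u hu]
    rw [(hψ1 ⟨_, hm⟩).2 hw, toAdd_one] at e
    have := congrFun e 0
    simpa [hs0] using this.symm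
  · obtain ⟨hm, e⟩ := hc u hu
    rw [hline _ hm, e]
    simp
  · obtain ⟨u, hu⟩ := hψ (Multiplicative.ofAdd ![0, Multiplicative.toAdd (ψ ⟨l, hl.1⟩) 0 / s])
    obtain ⟨hm, e⟩ := hc u u.2
    refine ⟨u, u.2, (hψ1 ((⟨_, hm⟩ : ↥U)⁻¹ * ⟨l, hl.1⟩)).1 ?_⟩
    rw [map_mul, map_inv, ← toAdd_eq_zero, toAdd_mul, toAdd_inv, e, hu, neg_add_eq_zero]
    funext i
    fin_cases i
    · simp [mul_div_cancel₀ _ hs0]
    · simpa using ((hline l hl.1).1 hl).symm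

end Step

end CfsgLib.PushAmalgam.TwoLayer
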