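import Cfsg.Agent.Lib.PushAmalgam.TwoLayer.Basic

/-!
# Two natural layers: the layers

With `Q = O_3(Γ)`, `K = O^3(Γ)`, `Y = Z(Q)`: `Y` is the product of the natural module `W = [Y, K]` and a
central part, `R = [Q, K]` has natural quotient over `W × C_R(K)`, and `Q` is the product of `R` and
`D = C_Q(K)`.
-/

set_option autoImplicit false
set_option linter.style.haveILetI false
set_option linter.unusedSectionVars false

open Subgroup
open scoped MatrixGroups commutatorElement Pointwise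
open CfsgLib.PushUp (cj mem_cj conj_mem_cj card_cj ctr Fr)

namespace CfsgLib.PushAmalgam.TwoLayer

universe u

variable {Γ : Type u} [Group Γ]

variable (Γ) in
/-- `[Z(Q), K]`. -/
abbrev bW : Subgroup Γ := ⁅ctr (Cfsg.pCore 3 Γ), Cfsg.pResidual 3 Γ⁆

variable (Γ) in
/-- `[Q, K]`. -/
abbrev bR : Subgroup Γ := ⁅Cfsg.pCore 3 Γ, Cfsg.pResidual 3 Γ⁆

variable (Γ) in
/-- `C_Q(K)`. -/
abbrev bD : Subgroup Γ := Cfsg.pCore 3 Γ ⊓ centralizer (Cfsg.pResidual 3 Γ : Set Γ)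

variable (Γ) in
/-- `C_R(K)`. -/
abbrev bZ : Subgroup Γ := bR Γ ⊓ centralizer (Cfsg.pResidual 3 Γ : Set Γ)

local notation "Q3" => Cfsg.pCore 3 Γ
local notation "K3" => Cfsg.pResidual 3 Γ

theorem comm_conj_mul (x y c : Γ) : ⁅x, y * c⁆ = ⁅x, y⁆ * (y * ⁅x, c⁆ * y⁻¹) := by
  simp only [commutatorElement_def]; group

theorem comm_mul_conj (x y c : Γ) : ⁅x * y, c⁆ = x * ⁅y, c⁆ * x⁻¹ * ⁅x, c⁆ := by
  simp only [commutatorElement_def]; group

/-- A commutator with a product is unchanged by a commuting factor. -/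
theorem conj_of_commute {x y : Γ} (h : Commute x y) : x * y * x⁻¹ = y := by
  rw [h.eq, mul_inv_cancel_right]

/-- A coprime element centralizing the commutator centralizes. -/
theorem comm_eq_one_of_pow {r q : Γ} {N : ℕ} (hy : Commute r ⁅r, q⁆) (hyp : ⁅r, q⁆ ^ N = 1)
    (hr : (orderOf r).Coprime N) : ⁅r, q⁆ = 1 := by
  obtain ⟨y, hydef⟩ : ∃ y, y = ⁅r, q⁆ := ⟨_, rfl⟩
  rw [← hydef] at hy hyp ⊢
  have hstep : r * q * r⁻¹ = y * q := by rw [hydef, commutatorElement_def]; group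
  have hiter : ∀ i : ℕ, r ^ i * q * (r ^ i)⁻¹ = y ^ i * q := by
    intro i
    induction i with
    | zero => simp
    | succ i ih =>
      calc r ^ (i + 1) * q * (r ^ (i + 1))⁻¹ = r * (r ^ i * q * (r ^ i)⁻¹) * r⁻¹ := by
            rw [pow_succ']; group
        _ = r * (y ^ i * q) * r⁻¹ := by rw [ih]
        _ = (r * y ^ i * r⁻¹) * (r * q * r⁻¹) := by group
        _ = _ := by rw [(hy.pow_right i).eq, mul_inv_cancel_right, hstep, pow_succ, mul_assoc]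
  have h1 := hiter (orderOf r)
  rw [pow_orderOf_eq_one, one_mul, inv_one, mul_one] at h1
  have h2 : y ^ orderOf r = 1 := mul_eq_right.1 h1.symm
  exact orderOf_eq_one_iff.1 (Nat.eq_one_of_dvd_coprimes hr (orderOf_dvd_of_pow_eq_one h2)
    (orderOf_dvd_of_pow_eq_one hyp))

theorem residual_normal : (K3).Normal := CfsgLib.Fusion.pResidual_normal

/-- `O^3` lies in a normal subgroup supplemented by a `3`-group. -/
theorem residual_le_of_sup [Finite Γ] {S N : Subgroup Γ} (hS : IsPGroup 3 ↥S) (hN : N.Normal)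
    (e : N ⊔ S = ⊤) : K3 ≤ N := by
  haveI := hN
  refine CfsgLib.Fusion.pResidual_le_of_isPGroup_quotient N ?_
  have h1 : S.map (QuotientGroup.mk' N) = ⊤ := by
    have h2 := congrArg (Subgroup.map (QuotientGroup.mk' N)) e
    rwa [Subgroup.map_sup, QuotientGroup.map_mk'_self, bot_sup_eq,
      Subgroup.map_top_of_surjective _ (QuotientGroup.mk'_surjective N)] at h2
  exact (h1 ▸ hS.map (QuotientGroup.mk' N) : IsPGroup 3 ↥(⊤ : Subgroup (Γ ⧸ N))).of_equiv topEquiv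

/-- `[U, K] = [U, K, K]` inside `Q`. -/
theorem comm_comm [Finite Γ] {U : Subgroup Γ} (hU : U.Normal) (hUQ : U ≤ Q3) :
    ⁅U, K3⁆ ≤ ⁅⁅U, K3⁆, K3⁆ := by
  classical
  haveI := hU
  haveI := residual_normal (Γ := Γ)
  obtain ⟨N, hN⟩ : ∃ N, N = ⁅⁅U, K3⁆, K3⁆ := ⟨_, rfl⟩
  haveI hNn : N.Normal := hN ▸ inferInstance
  rw [← hN]
  obtain ⟨C, hC⟩ : ∃ C : Subgroup Γ,
      C = (centralizer (U.map (QuotientGroup.mk' N) : Set (Γ ⧸ N))).comap (QuotientGroup.mk' N) := ⟨_, rfl⟩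
  have hKC : K3 ≤ C := by
    refine (Subgroup.closure_le _).2 fun x (hx : (orderOf x).Coprime 3) => ?_
    rw [hC, SetLike.mem_coe, mem_comap, mem_centralizer_iff]
    rintro _ ⟨u, hu, rfl⟩
    have hxK : x ∈ K3 := CfsgLib.Fusion.mem_pResidual hx
    have hc : ⁅x, u⁆ ∈ ⁅U, K3⁆ := by
      rw [← commutatorElement_inv]
      exact inv_mem (commutator_mem_commutator hu hxK)
    obtain ⟨k, hk⟩ := CfsgLib.Coprime.pCore_isPGroup 3 (G := Γ)
      ⟨⁅x, u⁆, hUQ (Subgroup.commutator_le_left U _ hc)⟩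
    have h1 : Commute (QuotientGroup.mk' N x) ⁅QuotientGroup.mk' N x, QuotientGroup.mk' N u⁆ := by
      rw [← commutatorElement_eq_one_iff_commute, ← map_commutatorElement, ← map_commutatorElement,
        QuotientGroup.mk'_apply, QuotientGroup.eq_one_iff]
      rw [← commutatorElement_inv]
      exact inv_mem (hN ▸ commutator_mem_commutator hc hxK)
    have h2 : ⁅QuotientGroup.mk' N x, QuotientGroup.mk' N u⁆ ^ 3 ^ k = 1 := by
      rw [← map_commutatorElement, ← map_pow, show ⁅x, u⁆ ^ 3 ^ k = 1 from congrArg Subtype.val hk, map_one]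
    have h3 := comm_eq_one_of_pow h1 h2
      ((Nat.Coprime.coprime_dvd_left (orderOf_map_dvd _ x) hx).pow_right k)
    exact (commutatorElement_eq_one_iff_commute.1 h3).symm.eq
  refine commutator_le.2 fun u hu y hy => ?_
  have hy' := hKC hy
  rw [hC, mem_comap, mem_centralizer_iff] at hy'
  rw [← QuotientGroup.eq_one_iff, ← QuotientGroup.mk'_apply, map_commutatorElement,
    commutatorElement_eq_one_iff_commute]
  exact hy' _ (mem_map_of_mem _ hu)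

variable {F : Type} [Field F] [Fintype F] [CharP F 3] {S V A A₀ : Subgroup Γ}

namespace Lay

variable [Finite Γ] (h : Lay F S V A A₀)
include h

theorem normal_Y : (ctr (Cfsg.pCore 3 Γ)).Normal := by
  haveI := h.normalQ
  exact inferInstanceAs ((Cfsg.pCore 3 Γ) ⊓ centralizer (Cfsg.pCore 3 Γ : Set Γ)).Normal

theorem normal_W : (bW Γ).Normal := by
  haveI := h.normal_Y
  haveI := residual_normal (Γ := Γ)
  infer_instance

theorem normal_R : (bR Γ).Normal := by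
  haveI := h.normalQ
  haveI := residual_normal (Γ := Γ)
  infer_instance

theorem normal_D : (bD Γ).Normal := by
  haveI := h.normalQ
  haveI := residual_normal (Γ := Γ)
  infer_instance

theorem normal_Z : (bZ Γ).Normal := by
  haveI := h.normal_R
  haveI := residual_normal (Γ := Γ)
  infer_instance

theorem normal_Fr : (Fr (Cfsg.pCore 3 Γ)).Normal :=
  normalizer_eq_top_iff.1 (top_le_iff.1 ((normalizer_eq_top_iff.2 h.normalQ).ge.trans (normalizer_le_Fr _)))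

theorem R_le_Q : bR Γ ≤ Q3 := by
  haveI := h.normalQ
  exact Subgroup.commutator_le_left _ _

theorem R_le_K : bR Γ ≤ K3 := by
  haveI := residual_normal (Γ := Γ)
  exact Subgroup.commutator_le_right _ _

theorem W_le_Y : bW Γ ≤ ctr (Cfsg.pCore 3 Γ) := by
  haveI := h.normal_Y
  exact Subgroup.commutator_le_left _ _

theorem W_le_R : bW Γ ≤ bR Γ := commutator_mono inf_le_left le_rfl

theorem Y_comm {y p : Γ} (hy : y ∈ ctr (Cfsg.pCore 3 Γ)) (hp : p ∈ Q3) : Commute y p :=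
  (commute_of_cent hy.2 hp).symm

theorem S_not_le : ¬ S ≤ Q3 := by
  intro hle
  haveI := h.normalQ
  obtain ⟨e⟩ := h.quot
  obtain ⟨ρ, hρ⟩ : ∃ ρ, ρ = e.toMonoidHom.comp (QuotientGroup.mk' (Cfsg.pCore 3 Γ)) := ⟨_, rfl⟩
  have hρs : Function.Surjective ρ := hρ ▸ e.surjective.comp (QuotientGroup.mk'_surjective _)
  obtain ⟨g, hg⟩ := h.exists_up ρ hρs
  have h1 : S.map ρ = ⊥ := (eq_bot_iff_forall _).2 (by
    rintro _ ⟨s, hs, rfl⟩
    rw [hρ, MonoidHom.comp_apply, show QuotientGroup.mk' (Cfsg.pCore 3 Γ) s = 1 from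
      (QuotientGroup.eq_one_iff s).2 (hle hs)]
    exact map_one _)
  rw [h1, Subgroup.map_bot] at hg
  have h2 := congrArg (fun X : Subgroup SL(2, F) => Nat.card ↥X) hg
  simp only [Subgroup.card_bot, CfsgLib.PushUpTwo.card_upGroup, Nat.card_eq_fintype_card] at h2
  exact (Fintype.one_lt_card (α := F)).ne h2

theorem exists_A : ∃ a ∈ A, a ∈ S ∧ a ∉ Q3 := by
  obtain ⟨s, hs, hsQ⟩ := SetLike.not_le_iff_exists.1 h.S_not_le
  obtain ⟨a, ha, c, hc, rfl⟩ := h.A_sup s hs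
  exact ⟨a, ha, h.A_le ha, fun haQ => hsQ (mul_mem haQ hc)⟩

theorem sup_eq_top {N : Subgroup Γ} (hN : N.Normal) {s : Γ} (hs : s ∈ S) (hsN : s ∈ N) (hsQ : s ∉ Q3) :
    N ⊔ S = ⊤ :=
  (h.sup_or N hN).resolve_left fun hle => hsQ (hle ⟨hs, hsN⟩)

/-- `K` centralizes `Φ(Q)`. -/
theorem Fr_le_cent : Fr (Cfsg.pCore 3 Γ) ≤ centralizer (K3 : Set Γ) := by
  haveI := h.normal_Fr
  obtain ⟨a, ha, haS, haQ⟩ := h.exists_A
  refine le_centralizer_iff.1 (residual_le_of_sup h.isP inferInstance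
    (h.sup_eq_top inferInstance haS ?_ haQ))
  exact mem_centralizer_iff.2 fun f hf => ((h.A_Fr a ha f hf).eq).symm

theorem comm_QQ {p p' : Γ} (hp : p ∈ Q3) (hp' : p' ∈ Q3) : ⁅p, p'⁆ ∈ Fr (Cfsg.pCore 3 Γ) :=
  comm_mem_Fr (CfsgLib.Coprime.pCore_isPGroup 3) hp hp'

theorem Fr_le_D : Fr (Cfsg.pCore 3 Γ) ≤ bD Γ := le_inf (Fr_le_self _) h.Fr_le_cent

theorem pow_nine {x : Γ} (hx : x ∈ Q3) : x ^ 9 = 1 := by
  have := h.Fr_elem _ (pow_mem_Fr (CfsgLib.Coprime.pCore_isPGroup 3) hx)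
  rwa [← pow_mul] at this

theorem exists_invol : ∃ j ∈ K3, j * j = 1 ∧ j ≠ 1 := by
  classical
  obtain ⟨w, hw⟩ : ∃ w : SL(2, F), w = swapSL F := ⟨_, rfl⟩
  have h2 : 2 ∣ Nat.card Γ := by
    rw [h.card_quot]
    refine Dvd.dvd.mul_left ?_ _
    have h4 : orderOf w ∣ 2 ^ 2 := orderOf_dvd_of_pow_eq_one (by rw [hw]; exact SLThree.swap_pow_four)
    obtain ⟨i, -, hi⟩ := (Nat.dvd_prime_pow Nat.prime_two).1 h4
    rcases Nat.eq_zero_or_pos i with rfl | hi0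
    · exfalso
      rw [pow_zero, orderOf_eq_one_iff, hw] at hi
      have e := congrArg (fun y : SL(2, F) => y.1 0 1) hi
      simp [swapSL_val] at e
    · exact ((dvd_pow_self 2 hi0.ne').trans hi.symm.dvd).trans (orderOf_dvd_natCard w)
  obtain ⟨j, hj⟩ := exists_prime_orderOf_dvd_card' 2 h2
  refine ⟨j, CfsgLib.Fusion.mem_pResidual (by rw [hj]; decide), ?_, fun h1 => ?_⟩
  · have := pow_orderOf_eq_one j
    rwa [hj, pow_two] at this
  · rw [h1, orderOf_one] at hj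
    exact absurd hj (by decide)

theorem invol_comm {j : Γ} (hj : j * j = 1) (hj1 : j ≠ 1) (g : Γ) : g⁻¹ * j * g * j⁻¹ ∈ Q3 := by
  haveI := h.normalQ
  obtain ⟨e⟩ := h.quot
  obtain ⟨ρ, hρ⟩ : ∃ ρ, ρ = e.toMonoidHom.comp (QuotientGroup.mk' (Cfsg.pCore 3 Γ)) := ⟨_, rfl⟩
  have hρs : Function.Surjective ρ := hρ ▸ e.surjective.comp (QuotientGroup.mk'_surjective _)
  have hker : ρ.ker = Cfsg.pCore 3 Γ := by
    rw [hρ]
    ext x
    simp [MonoidHom.mem_ker]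
  rw [← hker, MonoidHom.mem_ker, map_mul, map_mul, map_mul, map_inv, map_inv]
  have hc : ρ j * ρ g = ρ g * ρ j := Subtype.ext (by
    rw [Matrix.SpecialLinearGroup.coe_mul, Matrix.SpecialLinearGroup.coe_mul, h.rho_invol hker hj hj1]
    simp)
  rw [mul_assoc (ρ g)⁻¹, hc, ← mul_assoc, inv_mul_cancel, one_mul, mul_inv_cancel]

theorem invol_conj {j : Γ} (hj : j * j = 1) (hj1 : j ≠ 1) (g : Γ) :
    ∃ p ∈ Q3, j * g * j⁻¹ = g * p := by
  refine ⟨g⁻¹ * j * g * j⁻¹, h.invol_comm hj hj1 g, ?_⟩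
  group

/-- Splitting an element of `Q` whose commutator with `j` is inverted by `j`. -/
theorem split_invol {j x : Γ} (hj : j * j = 1) (hc : ⁅j, x⁆ ∈ Q3) :
    j * (⁅j, x⁆ ^ 5) * j⁻¹ = (⁅j, x⁆ ^ 5)⁻¹ ∧ j * (⁅j, x⁆ ^ 5 * x) * j⁻¹ = ⁅j, x⁆ ^ 5 * x := by
  have hji : j⁻¹ = j := inv_eq_of_mul_eq_one_right hj
  have h1 : j * ⁅j, x⁆ * j⁻¹ = ⁅j, x⁆⁻¹ := by
    rw [commutatorElement_inv, commutatorElement_def, commutatorElement_def, hji]
    calc j * (j * x * j * x⁻¹) * j = (j * j) * x * j * x⁻¹ * j := by group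
      _ = _ := by rw [hj, one_mul]
  have h2 : j * (⁅j, x⁆ ^ 5) * j⁻¹ = (⁅j, x⁆ ^ 5)⁻¹ := by rw [← conj_pow, h1, inv_pow]
  refine ⟨h2, ?_⟩
  have h3 : j * x * j⁻¹ = ⁅j, x⁆ * x := by rw [commutatorElement_def]; group
  have h9 := h.pow_nine hc
  calc j * (⁅j, x⁆ ^ 5 * x) * j⁻¹ = (j * ⁅j, x⁆ ^ 5 * j⁻¹) * (j * x * j⁻¹) := by group
    _ = (⁅j, x⁆ ^ 5)⁻¹ * ⁅j, x⁆ * x := by rw [h2, h3, mul_assoc]
    _ = _ := by
      congr 1
      rw [inv_mul_eq_iff_eq_mul, ← pow_add, show (5 + 5 : ℕ) = 9 + 1 by rfl, pow_add, h9, one_mul, pow_one]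

/-! ### The centre of `Q` -/

theorem ctrS_le_Y : ctr S ≤ ctr (Cfsg.pCore 3 Γ) := by
  obtain ⟨g, -, hg⟩ := h.opp
  exact le_sup_left.trans hg.le

theorem center_inf_relIndex : (center Γ).relIndex (ctr (Cfsg.pCore 3 Γ)) ≤ Fintype.card F ^ 2 := by
  obtain ⟨g, hgen, hg⟩ := h.opp
  obtain ⟨I, hI⟩ : ∃ I, I = ctr S ⊓ cj g (ctr S) := ⟨_, rfl⟩
  have hIc : I ≤ center Γ := by
    intro x hx
    rw [hI] at hx
    have h1 : x ∈ centralizer ((S ⊔ cj g S : Subgroup Γ) : Set Γ) := by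
      rw [CfsgLib.CDLat.centralizer_sup]
      exact ⟨hx.1.2, ((cj_ctr g S).le hx.2).2⟩
    rw [hgen, coe_top, centralizer_univ] at h1
    exact h1
  have hidx : ∀ X : Subgroup Γ, X ≤ ctr (Cfsg.pCore 3 Γ) → Nat.card ↥X = Nat.card ↥(ctr S) →
      X.relIndex (ctr (Cfsg.pCore 3 Γ)) = Fintype.card F := by
    intro X hX hc
    have h1 := relIndex_mul_relIndex ⊥ X _ bot_le hX
    rw [relIndex_bot_left, relIndex_bot_left, h.Y_card, hc] at h1
    exact Nat.eq_of_mul_eq_mul_left Nat.card_pos h1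
  have h2 : cj g (ctr S) ≤ ctr (Cfsg.pCore 3 Γ) := le_sup_right.trans hg.le
  refine (relIndex_le_of_le_left hIc Subgroup.index_ne_zero_of_finite).trans ?_
  rw [hI, pow_two, ← hidx _ h.ctrS_le_Y rfl]
  conv_rhs => arg 2; rw [hidx _ h.ctrS_le_Y rfl, ← hidx _ h2 (card_cj g _)]
  exact relIndex_inf_le

theorem W_step : Step F S (bW Γ) (bW Γ ⊓ center Γ) := by
  haveI := h.normal_Y
  haveI := h.normal_W
  haveI := residual_normal (Γ := Γ)
  refine h.step_of_card inferInstance inferInstance inf_le_left (h.W_le_Y.trans inf_le_left)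
    (fun hle => ?_) ((comm_comm h.normal_Y inf_le_left).trans le_sup_left) ?_ ?_
  · have h0 : bW Γ = ⊥ := le_bot_iff.1 ((comm_comm h.normal_Y inf_le_left).trans
      (commutator_eq_bot_iff_le_centralizer.2 ((hle.trans inf_le_right).trans
        (center_le_centralizer _))).le)
    have hcS : ctr S ≤ center Γ := by
      intro z hz
      obtain ⟨P₀, hP₀⟩ := h.syl
      have h1 : z ∈ centralizer ((Cfsg.pResidual 3 Γ ⊔ S : Subgroup Γ) : Set Γ) := by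
        rw [CfsgLib.CDLat.centralizer_sup]
        exact ⟨commutator_eq_bot_iff_le_centralizer.1 h0 (h.ctrS_le_Y hz), hz.2⟩
      rw [← hP₀, CfsgLib.Fusion.pResidual_sup_sylow P₀, coe_top, centralizer_univ] at h1
      exact h1
    obtain ⟨g, -, hg⟩ := h.opp
    have he : cj g (ctr S) ≤ ctr S := by
      rintro _ ⟨z, hz, rfl⟩
      simp only [MulEquiv.coe_toMonoidHom, MulAut.conj_apply]
      rwa [mem_center_iff.1 (hcS hz) g, mul_inv_cancel_right]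
    rw [sup_eq_left.2 he] at hg
    have := h.Y_card
    rw [← hg] at this
    have h2 : Fintype.card F = 1 := by
      have h3 : 0 < Nat.card ↥(ctr S) := Nat.card_pos
      nlinarith
    exact (Fintype.one_lt_card (α := F)).ne' h2
  · refine le_trans (le_of_eq (commutator_eq_bot_iff_le_centralizer.2 (h.W_le_Y.trans inf_le_right))) bot_le
  · rw [inf_relIndex_left]
    exact (relIndex_le_of_le_right h.W_le_Y Subgroup.index_ne_zero_of_finite).trans h.center_inf_relIndex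

theorem Y_split {y : Γ} (hy : y ∈ ctr (Cfsg.pCore 3 Γ)) :
    ∃ w ∈ bW Γ, ∃ z ∈ center Γ, y = w * z := by
  haveI := h.normal_W
  haveI := h.normal_Y
  obtain ⟨N, hN⟩ : ∃ N, N = bW Γ ⊔ ctr (Cfsg.pCore 3 Γ) ⊓ center Γ := ⟨_, rfl⟩
  have hNY : N ≤ ctr (Cfsg.pCore 3 Γ) := hN ▸ sup_le h.W_le_Y inf_le_left
  have hYN : ctr (Cfsg.pCore 3 Γ) ≤ N := by
    refine Subgroup.relIndex_eq_one.1 ?_
    have h1 := relIndex_mul_relIndex (ctr (Cfsg.pCore 3 Γ) ⊓ center Γ) N _ (hN ▸ le_sup_right) hNY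
    have h2 : (ctr (Cfsg.pCore 3 Γ) ⊓ center Γ).relIndex N = Fintype.card F ^ 2 := by
      rw [hN, relIndex_sup_right]
      have h3 := h.W_step.relIndex_eq
      rw [inf_relIndex_left] at h3
      rw [← inf_relIndex_right, inf_assoc, inf_comm (center Γ), ← inf_assoc,
        inf_eq_right.2 h.W_le_Y, inf_relIndex_left, h3]
    rw [h2, inf_relIndex_left] at h1
    have h4 := h.center_inf_relIndex
    have h5 : N.relIndex (ctr (Cfsg.pCore 3 Γ)) ≠ 0 := Subgroup.index_ne_zero_of_finite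
    have h6 : 0 < Fintype.card F ^ 2 := pow_pos Fintype.card_pos 2
    rw [← h1] at h4
    have : N.relIndex (ctr (Cfsg.pCore 3 Γ)) ≤ 1 := Nat.le_of_mul_le_mul_left (by simpa using h4) h6
    omega
  have h1 := hYN hy
  rw [hN, mem_sup_of_normal_left] at h1
  obtain ⟨w, hw, z, hz, e⟩ := h1
  exact ⟨w, hw, z, hz.2, e.symm⟩

theorem W_inv {j : Γ} (hj : j * j = 1) (hj1 : j ≠ 1) {w : Γ} (hw : w ∈ bW Γ) :
    j * w * j⁻¹ = w⁻¹ := by
  classical
  haveI := h.normal_Y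
  haveI := h.normal_W
  obtain ⟨I, hI⟩ : ∃ I : Subgroup Γ, ∀ x, x ∈ I ↔ x ∈ ctr (Cfsg.pCore 3 Γ) ∧ j * x * j⁻¹ = x⁻¹ := by
    refine ⟨{ carrier := {x | x ∈ ctr (Cfsg.pCore 3 Γ) ∧ j * x * j⁻¹ = x⁻¹}
              one_mem' := ⟨one_mem _, by group⟩
              mul_mem' := fun {a b} ha hb => ⟨mul_mem ha.1 hb.1, ?_⟩
              inv_mem' := fun {a} ha => ⟨inv_mem ha.1, by rw [← conj_inv, ha.2]⟩ }, fun _ => Iff.rfl⟩
    rw [show j * (a * b) * j⁻¹ = (j * a * j⁻¹) * (j * b * j⁻¹) by group, ha.2, hb.2, mul_inv_rev]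
    exact ((h.Y_comm hb.1 ha.1.1).inv_inv).eq.symm
  have hfix : ∀ z ∈ ctr (Cfsg.pCore 3 Γ), j * z * j⁻¹ = z → z ∈ center Γ := by
    intro z hz hjz
    obtain ⟨w₀, hw₀, z₀, hz₀, rfl⟩ := h.Y_split hz
    refine mul_mem ?_ hz₀
    refine (h.W_step.mem_of_fixed h inferInstance hj hj1 hw₀ ?_).2
    have e : j * w₀ * j⁻¹ = w₀ := by
      rw [show j * (w₀ * z₀) * j⁻¹ = (j * w₀ * j⁻¹) * (j * z₀ * j⁻¹) by group,
        conj_of_commute (mem_center_iff.1 hz₀ j)] at hjz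
      exact mul_right_cancel hjz
    rw [commutatorElement_def, e, mul_inv_cancel]
    exact one_mem _
  have hWI : bW Γ ≤ I := by
    refine commutator_le.2 fun y hy k _ => ?_
    obtain ⟨x, hxe⟩ : ∃ x, x = ⁅j, y⁆ := ⟨_, rfl⟩
    have hxY : x ∈ ctr (Cfsg.pCore 3 Γ) :=
      hxe ▸ mul_mem (Normal.conj_mem inferInstance y hy j) (inv_mem hy)
    obtain ⟨h1, h2⟩ := h.split_invol hj (hxe ▸ hxY.1)
    rw [← hxe] at h1 h2
    have hsI : x ^ 5 ∈ I := (hI _).2 ⟨pow_mem hxY 5, h1⟩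
    have hz := hfix _ (mul_mem (pow_mem hxY 5) hy) h2
    have hk : ∀ g : Γ, ∀ s ∈ I, g * s * g⁻¹ ∈ I := by
      intro g s hs
      obtain ⟨hsY, hs2⟩ := (hI s).1 hs
      refine (hI _).2 ⟨Normal.conj_mem inferInstance s hsY g, ?_⟩
      obtain ⟨p, hp, hpe⟩ := h.invol_conj hj hj1 g
      calc j * (g * s * g⁻¹) * j⁻¹ = (j * g * j⁻¹) * (j * s * j⁻¹) * (j * g * j⁻¹)⁻¹ := by group
        _ = g * (p * s⁻¹ * p⁻¹) * g⁻¹ := by rw [hpe, hs2]; group
        _ = g * s⁻¹ * g⁻¹ := by rw [conj_of_commute (h.Y_comm (inv_mem hsY) hp).symm]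
        _ = _ := by group
    have e : ⁅y, k⁆ = (x ^ 5)⁻¹ * (k * x ^ 5 * k⁻¹) := by
      have hzc := mem_center_iff.1 hz k
      rw [commutatorElement_def, show y = (x ^ 5)⁻¹ * (x ^ 5 * y) by group]
      calc (x ^ 5)⁻¹ * (x ^ 5 * y) * k * ((x ^ 5)⁻¹ * (x ^ 5 * y))⁻¹ * k⁻¹
          = (x ^ 5)⁻¹ * ((x ^ 5 * y) * k) * (x ^ 5 * y)⁻¹ * x ^ 5 * k⁻¹ := by group
        _ = _ := by rw [← hzc]; group
    rw [e]
    exact mul_mem (inv_mem hsI) (hk k _ hsI)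
  exact ((hI w).1 (hWI hw)).2

theorem W_inf_cent : bW Γ ⊓ centralizer (K3 : Set Γ) = ⊥ := by
  obtain ⟨j, hjK, hj, hj1⟩ := h.exists_invol
  refine (eq_bot_iff_forall _).2 fun w hw => ?_
  have h1 := h.W_inv hj hj1 hw.1
  rw [conj_of_commute (commute_of_cent hw.2 hjK), eq_inv_iff_mul_eq_one, ← pow_two] at h1
  exact orderOf_eq_one_iff.1 (Nat.eq_one_of_dvd_coprimes (by decide : Nat.Coprime 2 3)
    (orderOf_dvd_of_pow_eq_one h1) (orderOf_dvd_of_pow_eq_one (h.Y_elem _ (h.W_le_Y hw.1))))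

theorem W_natural : Step F S (bW Γ) ⊥ := by
  have h1 := h.W_step
  rwa [le_bot_iff.1 ((inf_le_inf_left (bW Γ) (center_le_centralizer _)).trans h.W_inf_cent.le)] at h1

theorem Y_le : ctr (Cfsg.pCore 3 Γ) ≤ bW Γ ⊔ bD Γ := by
  intro y hy
  obtain ⟨w, hw, z, hz, rfl⟩ := h.Y_split hy
  refine mul_mem_sup hw ⟨?_, center_le_centralizer _ hz⟩
  simpa using (Cfsg.pCore 3 Γ).mul_mem (Subgroup.inv_mem _ (h.W_le_Y hw).1) hy.1

/-! ### The upper layer -/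

theorem comm_QR {p r : Γ} (hp : p ∈ Q3) (hr : r ∈ bR Γ) : ⁅p, r⁆ ∈ bZ Γ := by
  haveI := h.normal_R
  exact ⟨(bR Γ).mul_mem (Normal.conj_mem inferInstance r hr p) ((bR Γ).inv_mem hr),
    h.Fr_le_cent (h.comm_QQ hp (h.R_le_Q hr))⟩

theorem Z_comm_R {z r : Γ} (hz : z ∈ bZ Γ) (hr : r ∈ bR Γ) : Commute z r :=
  (commute_of_cent hz.2 (h.R_le_K hr)).symm

theorem D_comm_R {d r : Γ} (hd : d ∈ bD Γ) (hr : r ∈ bR Γ) : Commute d r :=
  (commute_of_cent hd.2 (h.R_le_K hr)).symm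

theorem WZ_comm_R {x r : Γ} (hx : x ∈ bW Γ ⊔ bZ Γ) (hr : r ∈ bR Γ) : Commute x r := by
  haveI := h.normal_W
  obtain ⟨w, hw, z, hz, rfl⟩ := mem_sup_of_normal_left.1 hx
  exact (h.Y_comm (h.W_le_Y hw) (h.R_le_Q hr)).mul_left (h.Z_comm_R hz hr)

theorem mem_WZ {x : Γ} (hx : x ∈ bR Γ) (hx' : x ∈ bW Γ ⊔ bD Γ) : x ∈ bW Γ ⊔ bZ Γ := by
  haveI := h.normal_W
  obtain ⟨w, hw, d, hd, rfl⟩ := mem_sup_of_normal_left.1 hx'
  refine mul_mem_sup hw ⟨?_, hd.2⟩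
  simpa using (bR Γ).mul_mem ((bR Γ).inv_mem (h.W_le_R hw)) hx

theorem WD_inf : bR Γ ⊓ (bW Γ ⊔ bD Γ) = bW Γ ⊔ bZ Γ :=
  le_antisymm (fun _ hx => h.mem_WZ hx.1 hx.2)
    (le_inf (sup_le h.W_le_R inf_le_left)
      (sup_le le_sup_left ((le_inf (inf_le_left.trans h.R_le_Q) inf_le_right).trans le_sup_right)))

theorem R_relIndex : (bW Γ ⊔ bZ Γ).relIndex (bR Γ) ≤ Fintype.card F ^ 2 := by
  classical
  haveI := h.normal_W
  haveI := h.normal_D
  haveI := h.normalQ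
  obtain ⟨g, hgen, -⟩ := h.opp
  obtain ⟨N, hN⟩ : ∃ N, N = bW Γ ⊔ bD Γ := ⟨_, rfl⟩
  haveI hNn : N.Normal := hN ▸ inferInstance
  obtain ⟨Λ, hΛ⟩ : ∃ Λ, Λ = (V ⊔ cj g V) ⊔ N := ⟨_, rfl⟩
  have hVg : cj g V ≤ Q3 := by
    rintro _ ⟨v, hv, rfl⟩
    exact Normal.conj_mem inferInstance v (h.V_le hv) g
  have hFrΛ : Fr (Cfsg.pCore 3 Γ) ≤ Λ := hΛ ▸ (h.Fr_le_D.trans (hN ▸ le_sup_right)).trans le_sup_right
  have hΛQ : Λ ≤ Q3 := hΛ ▸ sup_le (sup_le h.V_le hVg) (hN ▸ sup_le (h.W_le_R.trans h.R_le_Q) inf_le_left)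
  have hS1 : ∀ s ∈ S, ∀ p ∈ Q3, ⁅p, s⁆ ∈ V ⊔ N := by
    intro s hs p hp
    obtain ⟨a, ha, c, hc, rfl⟩ := h.A_sup s hs
    rw [comm_conj_mul, conj_of_commute (h.A_Fr a ha _ (h.comm_QQ hp hc))]
    refine mul_mem ?_ (mem_sup_right (hN ▸ mem_sup_right (h.Fr_le_D (h.comm_QQ hp hc))))
    exact (sup_le le_sup_left ((h.Y_le.trans hN.ge).trans le_sup_right) : V ⊔ ctr (Cfsg.pCore 3 Γ) ≤ V ⊔ N)
      (h.A_P p hp a ha)
  obtain ⟨M, hM⟩ : ∃ M : Subgroup Γ, ∀ x, x ∈ M ↔ ∀ p ∈ Q3, ⁅p, x⁆ ∈ Λ := by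
    refine ⟨{ carrier := {x | ∀ p ∈ Q3, ⁅p, x⁆ ∈ Λ}
              one_mem' := fun p _ => by rw [commutatorElement_one_right]; exact one_mem _
              mul_mem' := fun {x y} hx hy p hp => ?_
              inv_mem' := fun {x} hx p hp => ?_ }, fun _ => Iff.rfl⟩
    · rw [comm_conj_mul]
      refine mul_mem (hx p hp) ?_
      have h1 : ⁅p, y⁆ ∈ Λ := hy p hp
      have e : x * ⁅p, y⁆ * x⁻¹ = ⁅x, ⁅p, y⁆⁆ * ⁅p, y⁆ := by simp only [commutatorElement_def]; group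
      rw [e, ← commutatorElement_inv]
      exact mul_mem (inv_mem (hx _ (hΛQ h1))) h1
    · have e : ⁅p, x⁻¹⁆ = ⁅x⁻¹ * p * x, x⁆⁻¹ := by simp only [commutatorElement_def]; group
      rw [e]
      exact inv_mem (hx _ (by simpa using Normal.conj_mem inferInstance p hp x⁻¹))
  have htop : (⊤ : Subgroup Γ) ≤ M := by
    rw [← hgen]
    refine sup_le (fun s hs => (hM s).2 fun p hp => ?_) ?_
    · exact hΛ ▸ (sup_le_sup_right le_sup_left N) (hS1 s hs p hp)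
    · rintro _ ⟨s, hs, rfl⟩
      refine (hM _).2 fun p hp => ?_
      have hp' : g⁻¹ * p * g ∈ Q3 := by simpa using Normal.conj_mem inferInstance p hp g⁻¹
      have h1 := conj_mem_cj (g := g) (hS1 s hs _ hp')
      rw [cj_sup] at h1
      have e : cj g N = N := CfsgLib.PushUp.cj_eq_of_mem_normalizer (normalizer_eq_top (H := N) ▸ mem_top g)
      rw [e] at h1
      have h2 : ⁅p, (MulAut.conj g).toMonoidHom s⁆ = g * ⁅g⁻¹ * p * g, s⁆ * g⁻¹ := by
        simp only [MulEquiv.coe_toMonoidHom, MulAut.conj_apply, commutatorElement_def]; group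
      rw [h2, hΛ]
      exact (sup_le_sup_right le_sup_right N) h1
  have hRΛ : bR Γ ≤ Λ := commutator_le.2 fun p hp k _ => (hM k).1 (htop (mem_top k)) p hp
  rw [← h.WD_inf, ← hN, inf_relIndex_left]
  refine (relIndex_le_of_le_right hRΛ Subgroup.index_ne_zero_of_finite).trans ?_
  have hVN : ctr S ≤ N := hN ▸ h.ctrS_le_Y.trans h.Y_le
  have hidx : N.relIndex V ≤ Fintype.card F := by
    refine (relIndex_le_of_le_left hVN Subgroup.index_ne_zero_of_finite).trans (le_of_eq ?_)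
    have h1 := relIndex_mul_relIndex ⊥ _ V bot_le h.ctr_le
    rw [relIndex_bot_left, relIndex_bot_left, h.V_card, h.Y_card] at h1
    exact Nat.eq_of_mul_eq_mul_left Nat.card_pos h1
  have hidx' : N.relIndex (cj g V) = N.relIndex V := by
    have e : cj g N = N := CfsgLib.PushUp.cj_eq_of_mem_normalizer (normalizer_eq_top (H := N) ▸ mem_top g)
    conv_lhs => rw [← e]
    exact relIndex_map_map_of_injective _ _ (MulAut.conj g).injective
  rw [hΛ, relIndex_sup_right]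
  obtain ⟨π, hπ⟩ : ∃ π, π = QuotientGroup.mk' N := ⟨_, rfl⟩
  have hker : π.ker = N := hπ ▸ QuotientGroup.ker_mk' N
  have hcard : ∀ X : Subgroup Γ, N.relIndex X = Nat.card ↥(X.map π) := fun X => by
    have := relIndex_ker (K := X) π
    rwa [hker] at this
  rw [hcard, Subgroup.map_sup]
  have hab : V.map π ≤ normalizer (((cj g V).map π : Subgroup (Γ ⧸ N)) : Set (Γ ⧸ N)) := by
    rintro _ ⟨v, hv, rfl⟩
    refine centralizer_le_normalizer _ (mem_centralizer_iff.2 ?_)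
    rintro _ ⟨w, hw, rfl⟩
    rw [← map_mul, ← map_mul, hπ, QuotientGroup.mk'_apply, QuotientGroup.mk'_apply, QuotientGroup.eq]
    have := h.Fr_le_D (h.comm_QQ (inv_mem (h.V_le hv)) (inv_mem (hVg hw)))
    rw [hN]
    refine mem_sup_right ?_
    simpa [commutatorElement_def, mul_assoc] using this
  have hprod : Nat.card ↥(V.map π ⊔ (cj g V).map π) ≤
      Nat.card ↥(V.map π) * Nat.card ↥((cj g V).map π) := by
    rw [← Nat.card_prod]
    refine Nat.card_le_card_of_surjective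
      (fun x : ↥(V.map π) × ↥((cj g V).map π) =>
        (⟨x.1 * x.2, mul_mem_sup x.1.2 x.2.2⟩ : ↥(V.map π ⊔ (cj g V).map π))) ?_
    rintro ⟨y, hy⟩
    rw [← SetLike.mem_coe, coe_mul_of_left_le_normalizer_right _ _ hab] at hy
    obtain ⟨a, ha, b, hb, rfl⟩ := hy
    exact ⟨(⟨a, ha⟩, ⟨b, hb⟩), rfl⟩
  refine hprod.trans ?_
  rw [← hcard, ← hcard, hidx', pow_two]
  exact Nat.mul_le_mul hidx hidx

/-- `D` consists of the elements fixed by the involution, given the fixed points on `R`. -/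
theorem mem_D_of_fix {j : Γ} (hjK : j ∈ K3) (hj : j * j = 1) (hj1 : j ≠ 1)
    (hfix : ∀ r ∈ bR Γ, j * r * j⁻¹ = r → r ∈ bZ Γ) {d : Γ} (hd : d ∈ Q3) (hjd : j * d * j⁻¹ = d) :
    d ∈ bD Γ := by
  haveI := h.normal_R
  have hcR : ∀ k ∈ K3, ⁅d, k⁆ ∈ bR Γ := fun k hk => commutator_mem_commutator hd hk
  have hZ : ∀ k ∈ K3, ⁅d, k⁆ ∈ bZ Γ := by
    intro k hk
    refine hfix _ (hcR k hk) ?_
    obtain ⟨x, hx⟩ : ∃ x, x = ⁅d, k⁆ := ⟨_, rfl⟩
    obtain ⟨p, hp, hpe⟩ := h.invol_conj hj hj1 k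
    obtain ⟨z, hz⟩ : ∃ z, z = ⁅d, p⁆ := ⟨_, rfl⟩
    have hzC : z ∈ centralizer (K3 : Set Γ) := hz ▸ h.Fr_le_cent (h.comm_QQ hd hp)
    have h1 : j * x * j⁻¹ = x * z := by
      have e : j * x * j⁻¹ = ⁅j * d * j⁻¹, j * k * j⁻¹⁆ := by
        rw [hx]; simp only [commutatorElement_def]; group
      rw [e, hjd, hpe, comm_conj_mul, ← hz, ← hx, conj_of_commute (commute_of_cent hzC hk)]
    have hzR : z ∈ bR Γ := by
      have h2 : j * x * j⁻¹ ∈ bR Γ := Normal.conj_mem inferInstance x (hx ▸ hcR k hk) j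
      rw [h1] at h2
      simpa using mul_mem (inv_mem (hx ▸ hcR k hk : x ∈ bR Γ)) h2
    have h3 : x = x * z * z := by
      calc x = (j * j) * x * (j * j)⁻¹ := by rw [hj]; group
        _ = j * (j * x * j⁻¹) * j⁻¹ := by group
        _ = (j * x * j⁻¹) * (j * z * j⁻¹) := by
          conv_lhs => rw [h1]
          group
        _ = _ := by rw [h1, conj_of_commute (commute_of_cent hzC hjK)]
    have hz2 : z ^ 2 = 1 := by
      rw [pow_two]
      have h5 := h3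
      rw [mul_assoc] at h5
      exact mul_eq_left.1 h5.symm
    have hz3 : z ^ 3 = 1 := by rw [hz]; exact h.Fr_elem _ (h.comm_QQ hd hp)
    rw [← hx, h1, orderOf_eq_one_iff.1 (Nat.eq_one_of_dvd_coprimes (by decide : Nat.Coprime 2 3)
      (orderOf_dvd_of_pow_eq_one hz2) (orderOf_dvd_of_pow_eq_one hz3)), mul_one]
  obtain ⟨φ, hφ⟩ : ∃ φ : ↥(K3) →* ↥(bZ Γ), ∀ k, (φ k : Γ) = ⁅d, (k : Γ)⁆ := by
    refine ⟨MonoidHom.mk' (fun k => ⟨_, hZ k k.2⟩) fun a b => Subtype.ext ?_, fun _ => rfl⟩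
    show ⁅d, (a : Γ) * b⁆ = ⁅d, (a : Γ)⁆ * ⁅d, (b : Γ)⁆
    rw [comm_conj_mul, conj_of_commute (commute_of_cent (hZ b b.2).2 a.2)]
  have hker : Cfsg.pResidual 3 ↥(K3) ≤ φ.ker := CfsgLib.Fusion.pResidual_le_ker φ
    ((CfsgLib.Coprime.pCore_isPGroup 3).to_le (inf_le_left.trans h.R_le_Q))
  rw [CfsgLib.Fusion.pResidual_pResidual] at hker
  refine ⟨hd, mem_centralizer_iff.2 fun k hk => ?_⟩
  have h1 := congrArg Subtype.val (MonoidHom.mem_ker.1 (hker (mem_top (⟨k, hk⟩ : ↥(K3)))))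
  rw [hφ, Subgroup.coe_one, commutatorElement_eq_one_iff_commute] at h1
  exact h1.symm.eq

theorem exists_rd {j : Γ} (hjK : j ∈ K3) (hj : j * j = 1) (hj1 : j ≠ 1)
    (hfix : ∀ r ∈ bR Γ, j * r * j⁻¹ = r → r ∈ bZ Γ) {p : Γ} (hp : p ∈ Q3) :
    ∃ r ∈ bR Γ, ∃ d ∈ bD Γ, p = r * d := by
  haveI := h.normalQ
  have hx : ⁅j, p⁆ ∈ bR Γ := by
    rw [← commutatorElement_inv]; exact inv_mem (commutator_mem_commutator hp hjK)
  obtain ⟨-, h2⟩ := h.split_invol hj (h.R_le_Q hx)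
  refine ⟨(⁅j, p⁆ ^ 5)⁻¹, inv_mem (pow_mem hx 5), _,
    h.mem_D_of_fix hjK hj hj1 hfix (mul_mem (pow_mem (h.R_le_Q hx) 5) hp) h2, ?_⟩
  group

theorem R_not_le : ¬ bR Γ ≤ bW Γ ⊔ bZ Γ := by
  intro hle
  haveI := h.normal_W
  haveI := h.normalQ
  obtain ⟨j, hjK, hj, hj1⟩ := h.exists_invol
  have hfix : ∀ r ∈ bR Γ, j * r * j⁻¹ = r → r ∈ bZ Γ := by
    intro r hr hjr
    obtain ⟨w, hw, z, hz, rfl⟩ := mem_sup_of_normal_left.1 (hle hr)
    have e : j * (w * z) * j⁻¹ = (j * w * j⁻¹) * (j * z * j⁻¹) := by group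
    rw [e, h.W_inv hj hj1 hw, conj_of_commute (commute_of_cent hz.2 hjK)] at hjr
    have hw1 : w = 1 := by
      have h2 : w ^ 2 = 1 := by
        rw [pow_two, ← inv_eq_iff_mul_eq_one]
        exact mul_right_cancel hjr
      exact orderOf_eq_one_iff.1 (Nat.eq_one_of_dvd_coprimes (by decide : Nat.Coprime 2 3)
        (orderOf_dvd_of_pow_eq_one h2) (orderOf_dvd_of_pow_eq_one (h.Y_elem _ (h.W_le_Y hw))))
    rw [hw1, one_mul]
    exact hz
  have hRW : bR Γ ≤ bW Γ := by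
    refine (comm_comm h.normalQ le_rfl).trans (commutator_le.2 fun r hr k hk => ?_)
    obtain ⟨w, hw, z, hz, rfl⟩ := mem_sup_of_normal_left.1 (hle hr)
    rw [comm_mul_conj, commutatorElement_eq_one_iff_commute.2 (commute_of_cent hz.2 hk).symm, mul_one,
      mul_inv_cancel, one_mul, commutatorElement_def, mul_assoc w k, mul_assoc w (k * w⁻¹)]
    exact mul_mem hw (Normal.conj_mem inferInstance _ (inv_mem hw) k)
  obtain ⟨n, hn, y, hy, v, hv, e, hne⟩ := h.cube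
  obtain ⟨r, hr, d, hd, rfl⟩ := h.exists_rd hjK hj hj1 hfix hy
  haveI := h.normal_D
  have hrW := hRW hr
  have hnd : ⁅n, d⁆ ∈ bD Γ := mul_mem (Normal.conj_mem inferInstance d hd n) (inv_mem hd)
  have hnr : ⁅n, r⁆ ∈ bW Γ := mul_mem (Normal.conj_mem inferInstance r hrW n) (inv_mem hrW)
  have hnnd : ⁅n, ⁅n, d⁆⁆ ∈ bD Γ := mul_mem (Normal.conj_mem inferInstance _ hnd n) (inv_mem hnd)
  rw [comm_conj_mul n r d, conj_of_commute (h.D_comm_R hnd hr).symm, comm_conj_mul,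
    conj_of_commute ((h.Y_comm (h.W_le_Y hnr) hnnd.1))] at e
  -- the layer part
  have hnS := h.A_le hn
  have hnnr : ⁅n, ⁅n, r⁆⁆ = 1 := by
    by_cases hnQ : n ∈ Q3
    · exact commutatorElement_eq_one_iff_commute.2 (h.Y_comm (h.W_le_Y hnr) hnQ).symm
    have h1 := ((h.W_natural.line_eq h.normal_W hnS hnQ).2.1 r hrW).2 n hnS
    exact mem_bot.1 h1
  rw [hnnr, one_mul] at e
  obtain ⟨w, hw, z, hz, rfl⟩ := h.Y_split hv
  rw [comm_conj_mul, commutatorElement_eq_one_iff_commute.2 ((mem_center_iff.1 hz n) : Commute n z),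
    mul_one, mul_inv_cancel, mul_one] at e hne
  refine hne (mem_bot.1 (h.W_inf_cent.le ⟨?_, e ▸ hnnd.2⟩))
  exact (bW Γ).mul_mem (Normal.conj_mem inferInstance w hw n) ((bW Γ).inv_mem hw)

theorem R_step : Step F S (bR Γ) (bW Γ ⊔ bZ Γ) := by
  haveI := h.normal_W
  haveI := h.normal_Z
  haveI := h.normalQ
  refine h.step_of_card h.normal_R inferInstance (sup_le h.W_le_R inf_le_left) h.R_le_Q h.R_not_le
    ((comm_comm h.normalQ le_rfl).trans le_sup_left) (commutator_le.2 fun r hr p hp => ?_) h.R_relIndex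
  rw [← commutatorElement_inv]
  exact inv_mem (mem_sup_right (h.comm_QR hp hr))

theorem fix_R {j : Γ} (hjK : j ∈ K3) (hj : j * j = 1) (hj1 : j ≠ 1) {r : Γ} (hr : r ∈ bR Γ)
    (hjr : j * r * j⁻¹ = r) : r ∈ bZ Γ := by
  haveI := h.normal_W
  have h1 := h.R_step.mem_of_fixed h h.normal_R hj hj1 hr (by
    rw [commutatorElement_def, hjr, mul_inv_cancel]; exact one_mem _)
  obtain ⟨w, hw, z, hz, rfl⟩ := mem_sup_of_normal_left.1 h1
  rw [show j * (w * z) * j⁻¹ = (j * w * j⁻¹) * (j * z * j⁻¹) by group, h.W_inv hj hj1 hw,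
    conj_of_commute (commute_of_cent hz.2 hjK)] at hjr
  have hw1 : w = 1 := by
    have h2 : w ^ 2 = 1 := by
      rw [pow_two, ← inv_eq_iff_mul_eq_one]
      exact mul_right_cancel hjr
    exact orderOf_eq_one_iff.1 (Nat.eq_one_of_dvd_coprimes (by decide : Nat.Coprime 2 3)
      (orderOf_dvd_of_pow_eq_one h2) (orderOf_dvd_of_pow_eq_one (h.Y_elem _ (h.W_le_Y hw))))
  rw [hw1, one_mul]
  exact hz

theorem Q_eq {p : Γ} (hp : p ∈ Q3) : ∃ r ∈ bR Γ, ∃ d ∈ bD Γ, p = r * d := by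
  obtain ⟨j, hjK, hj, hj1⟩ := h.exists_invol
  exact h.exists_rd hjK hj hj1 (fun r => h.fix_R hjK hj hj1) hp

theorem mem_D {j : Γ} (hjK : j ∈ K3) (hj : j * j = 1) (hj1 : j ≠ 1) {d : Γ} (hd : d ∈ Q3)
    (hjd : j * d * j⁻¹ = d) : d ∈ bD Γ :=
  h.mem_D_of_fix hjK hj hj1 (fun r => h.fix_R hjK hj hj1) hd hjd

end Lay

end CfsgLib.PushAmalgam.TwoLayer
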