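import Cfsg.Agent.Lib.PushAmalgam.TwoLayer.Structure

/-!
# Two natural layers: the centre of `R` and the quadratic action

`Z = [R, R]` is central of order `q`, and no element of `S` outside `O_3(Γ)` moves `R` quadratically modulo `Z`.
-/

set_option autoImplicit false
set_option linter.style.haveILetI false
set_option linter.unusedSectionVars false

open Subgroup
open scoped MatrixGroups commutatorElement Pointwise
open CfsgLib.PushUp (cj mem_cj conj_mem_cj card_cj ctr Fr)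
open CfsgLib.PushUpTwo (upGroup)
open scoped IsMulCommutative

namespace CfsgLib.PushAmalgam.TwoLayer

universe u

variable {Γ : Type u} [Group Γ]

local notation "Q3" => Cfsg.pCore 3 Γ
local notation "K3" => Cfsg.pResidual 3 Γ

variable {F : Type} [Field F] [Fintype F] [CharP F 3] {S V A A₀ : Subgroup Γ}

namespace Lay

variable [Finite Γ] (h : Lay F S V A A₀)
include h

theorem Q_inf_K : Q3 ⊓ K3 = bR Γ :=
  le_antisymm (fun _ hx => h.K_inf_Q ⟨hx.2, hx.1⟩) (le_inf h.R_le_Q h.R_le_K)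

theorem comm_RR_le : ⁅bR Γ, bR Γ⁆ ≤ bZ Γ :=
  commutator_le.2 fun _ hx _ hy => h.comm_QR (h.R_le_Q hx) hy

/-- `Z = [R, R]`. -/
theorem Z_eq : bZ Γ = ⁅bR Γ, bR Γ⁆ := by
  refine le_antisymm ?_ h.comm_RR_le
  haveI := h.normal_R
  haveI := h.normal_W
  haveI := residual_normal (Γ := Γ)
  obtain ⟨j, hjK, hj, hj1⟩ := h.exists_invol
  obtain ⟨N, hN⟩ : ∃ N, N = bW Γ ⊔ ⁅bR Γ, bR Γ⁆ := ⟨_, rfl⟩
  haveI hNn : N.Normal := hN ▸ inferInstance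
  have hcomm : ∀ x ∈ bR Γ, ∀ y ∈ bR Γ, ⁅x, y⁆ ∈ N := fun x hx y hy =>
    hN ▸ mem_sup_right (commutator_mem_commutator hx hy)
  obtain ⟨I, hI⟩ : ∃ I : Subgroup Γ, ∀ r, r ∈ I ↔ r ∈ bR Γ ∧ (j * r * j⁻¹) * r ∈ N := by
    refine ⟨{ carrier := {r | r ∈ bR Γ ∧ (j * r * j⁻¹) * r ∈ N}
              one_mem' := ⟨one_mem _, by simp⟩
              mul_mem' := fun {a b} ha hb => ⟨(bR Γ).mul_mem ha.1 hb.1, ?_⟩
              inv_mem' := fun {a} ha => ⟨(bR Γ).inv_mem ha.1, ?_⟩ }, fun _ => Iff.rfl⟩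
    · have e : (j * (a * b) * j⁻¹) * (a * b) = (j * a * j⁻¹) * ⁅j * b * j⁻¹, a⁆ * (j * a * j⁻¹)⁻¹ *
          ((j * a * j⁻¹) * a * ((j * b * j⁻¹) * b)) := by simp only [commutatorElement_def]; group
      rw [e]
      exact mul_mem (hNn.conj_mem _ (hcomm _ (Normal.conj_mem inferInstance b hb.1 j) a ha.1) _)
        (mul_mem ha.2 hb.2)
    · have e : (j * a⁻¹ * j⁻¹) * a⁻¹ = ⁅(j * a * j⁻¹)⁻¹, a⁻¹⁆ * ((j * a * j⁻¹) * a)⁻¹ := by
        simp only [commutatorElement_def]; group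
      rw [e]
      exact mul_mem (hcomm _ ((bR Γ).inv_mem (Normal.conj_mem inferInstance a ha.1 j)) _
        ((bR Γ).inv_mem ha.1)) (inv_mem ha.2)
  have hIinv : ∀ s ∈ bR Γ, j * s * j⁻¹ = s⁻¹ → s ∈ I := fun s hs he =>
    (hI s).2 ⟨hs, by rw [he, inv_mul_cancel]; exact one_mem _⟩
  have hIK : ∀ k ∈ K3, ∀ r ∈ I, k * r * k⁻¹ ∈ I := by
    intro k hk r hr
    obtain ⟨hrR, hr2⟩ := (hI r).1 hr
    refine (hI _).2 ⟨Normal.conj_mem inferInstance r hrR k, ?_⟩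
    obtain ⟨c, hc⟩ : ∃ c, c = k⁻¹ * j * k * j⁻¹ := ⟨_, rfl⟩
    have hcR : c ∈ bR Γ := h.K_inf_Q ⟨hc ▸ (K3).mul_mem ((K3).mul_mem ((K3).mul_mem ((K3).inv_mem hk) hjK) hk)
      ((K3).inv_mem hjK), hc ▸ h.invol_comm hj hj1 k⟩
    have e : (j * (k * r * k⁻¹) * j⁻¹) * (k * r * k⁻¹) =
        k * (⁅c, j * r * j⁻¹⁆ * ((j * r * j⁻¹) * r)) * k⁻¹ := by
      rw [hc]; simp only [commutatorElement_def]; group
    rw [e]
    exact hNn.conj_mem _ (mul_mem (hcomm c hcR _ (Normal.conj_mem inferInstance r hrR j)) hr2) k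
  have hRI : bR Γ ≤ I := by
    refine (comm_comm h.normalQ le_rfl).trans (commutator_le.2 fun r hr k hk => ?_)
    obtain ⟨x, hx⟩ : ∃ x, x = ⁅j, r⁆ := ⟨_, rfl⟩
    have hxR : x ∈ bR Γ := hx ▸ (bR Γ).mul_mem (Normal.conj_mem inferInstance r hr j) ((bR Γ).inv_mem hr)
    obtain ⟨h1, h2⟩ := h.split_invol hj (hx ▸ h.R_le_Q hxR)
    rw [← hx] at h1 h2
    have hz := h.fix_R hjK hj hj1 ((bR Γ).mul_mem (pow_mem hxR 5) hr) h2
    have hs := hIinv _ (pow_mem hxR 5) h1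
    obtain ⟨s, hse⟩ : ∃ s, s = x ^ 5 := ⟨_, rfl⟩
    rw [← hse] at hs hz
    have hk' : (s * r) * k * (s * r)⁻¹ = k := conj_of_commute (commute_of_cent hz.2 hk).symm
    have e : ⁅r, k⁆ = s⁻¹ * (k * s * k⁻¹) := by
      calc ⁅r, k⁆ = s⁻¹ * ((s * r) * k * (s * r)⁻¹) * s * k⁻¹ := by
            simp only [commutatorElement_def]; group
        _ = _ := by rw [hk']; group
    rw [e]
    exact I.mul_mem (I.inv_mem hs) (hIK k hk s hs)
  intro z hz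
  have h1 := ((hI z).1 (hRI hz.1)).2
  rw [conj_of_commute (commute_of_cent hz.2 hjK), ← pow_two] at h1
  have h2 := mem_of_sq_mem (h.pow_nine (h.R_le_Q hz.1)) h1
  rw [hN] at h2
  obtain ⟨w, hw, c, hc, e⟩ := mem_sup_of_normal_left.1 h2
  have hw1 : w = 1 := mem_bot.1 (h.W_inf_cent.le ⟨hw, by
    rw [show w = z * c⁻¹ by rw [← e, mul_inv_cancel_right]]
    exact mul_mem hz.2 (Subgroup.inv_mem _ (h.comm_RR_le hc).2)⟩)
  rw [← e, hw1, one_mul]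
  exact hc

theorem Z_le_Fr : bZ Γ ≤ Fr (Cfsg.pCore 3 Γ) := by
  rw [h.Z_eq]
  exact commutator_le.2 fun x hx y hy => h.comm_QQ (h.R_le_Q hx) (h.R_le_Q hy)

theorem Z_elem {z : Γ} (hz : z ∈ bZ Γ) : z ^ 3 = 1 := h.Fr_elem z (h.Z_le_Fr hz)

theorem Z_le_D : bZ Γ ≤ bD Γ := le_inf (inf_le_left.trans h.R_le_Q) inf_le_right

theorem cube_mem_Z {r : Γ} (hr : r ∈ bR Γ) : r ^ 3 ∈ bZ Γ :=
  ⟨pow_mem hr 3, h.Fr_le_cent (pow_mem_Fr (CfsgLib.Coprime.pCore_isPGroup 3) (h.R_le_Q hr))⟩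

theorem Z_le_center : bZ Γ ≤ center Γ := by
  intro z hz
  obtain ⟨P₀, hP₀⟩ := h.syl
  have hQ : ∀ p ∈ Q3, Commute p z := by
    intro p hp
    obtain ⟨r, hr, d, hd, rfl⟩ := h.Q_eq hp
    exact (h.Z_comm_R hz hr).symm.mul_left (h.D_comm_R hd hz.1)
  have hS : S ≤ centralizer ({z} : Set Γ) := fun s hs => by
    obtain ⟨a, ha, c, hc, rfl⟩ := h.A_sup s hs
    exact mem_centralizer_singleton_iff.2 ((h.A_Fr a ha z (h.Z_le_Fr hz)).mul_left (hQ c hc)).eq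
  have hK : K3 ≤ centralizer ({z} : Set Γ) := fun k hk =>
    mem_centralizer_singleton_iff.2 (commute_of_cent hz.2 hk).eq
  have htop := sup_le hK (hP₀ ▸ hS : (P₀ : Subgroup Γ) ≤ centralizer ({z} : Set Γ))
  rw [CfsgLib.Fusion.pResidual_sup_sylow P₀] at htop
  exact mem_center_iff.2 fun g => mem_centralizer_singleton_iff.1 (htop (mem_top g))

/-- The centre of `R` is `W × Z`. -/
theorem ctr_R : ctr (bR Γ) = bW Γ ⊔ bZ Γ :=
  le_antisymm (fun _ hx => h.cent_R hx.1 fun _ hr => commute_of_cent hx.2 hr)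
    fun _ hx => ⟨(sup_le h.W_le_R inf_le_left : bW Γ ⊔ bZ Γ ≤ bR Γ) hx,
      mem_centralizer_iff.2 fun _ hr => (h.WZ_comm_R hx hr).symm.eq⟩

theorem WZ_elem {x : Γ} (hx : x ∈ bW Γ ⊔ bZ Γ) : x ^ 3 = 1 := by
  haveI := h.normal_W
  obtain ⟨w, hw, z, hz, rfl⟩ := mem_sup_of_normal_left.1 hx
  rw [(show Commute w z from (h.Z_comm_R hz (h.W_le_R hw)).symm).mul_pow,
    h.Y_elem _ (h.W_le_Y hw), h.Z_elem hz, one_mul]

theorem card_Z_ge : Fintype.card F ≤ Nat.card ↥(bZ Γ) := by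
  haveI := h.normalQ
  obtain ⟨s, hs, hfix⟩ := h.exists_s0
  have hm : ∀ v ∈ V, ⁅s, v⁆ ∈ bZ Γ := fun v hv => by
    rw [← commutatorElement_inv v s]
    exact Subgroup.inv_mem _ (h.comm_QR (h.V_le hv) hs)
  let f : ↥V →* ↥(bZ Γ) := MonoidHom.mk' (fun v => ⟨_, hm v v.2⟩) fun a b => Subtype.ext (by
    show ⁅s, (a : Γ) * b⁆ = ⁅s, (a : Γ)⁆ * ⁅s, (b : Γ)⁆
    rw [comm_conj_mul, mem_center_iff.1 (h.Z_le_center (hm b b.2)) a, mul_inv_cancel_right])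
  have hker : f.ker ≤ (ctr S).subgroupOf V := fun v hv => hfix v v.2
    (commutatorElement_eq_one_iff_commute.1 (congrArg Subtype.val (MonoidHom.mem_ker.1 hv)))
  refine h.V_relIndex.ge.trans ((Subgroup.index_antitone hker).trans ?_)
  rw [Subgroup.index_ker]
  exact Nat.card_le_card_of_injective _ Subtype.val_injective

theorem card_Z_le : Nat.card ↥(bZ Γ) ≤ Fintype.card F := by
  classical
  haveI := h.normal_R
  obtain ⟨-, ρ, ψ, hρ, hker, -, hψ, hψ1, heq⟩ := h.R_step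
  obtain ⟨σ, hσ⟩ := hψ.hasRightInverse
  have hmem : ∀ x y : ↥(bR Γ), ⁅(x : Γ), (y : Γ)⁆ ∈ center Γ := fun x y =>
    h.Z_le_center (h.comm_QR (h.R_le_Q x.2) y.2)
  obtain ⟨b, hb⟩ : ∃ b : ↥(bR Γ) → ↥(bR Γ) → Additive ↥(center Γ),
      ∀ x y, b x y = Additive.ofMul ⟨_, hmem x y⟩ := ⟨_, fun _ _ => rfl⟩
  have hbl : ∀ x x' y, b (x * x') y = b x y + b x' y := fun x x' y => by
    rw [hb, hb, hb, ← ofMul_mul]
    congr 1
    refine Subtype.ext ?_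
    show ⁅(x : Γ) * x', (y : Γ)⁆ = ⁅(x : Γ), (y : Γ)⁆ * ⁅(x' : Γ), (y : Γ)⁆
    rw [comm_mul_conj, mem_center_iff.1 (hmem x' y) x, mul_inv_cancel_right,
      mem_center_iff.1 (hmem x y) _]
  have hbr : ∀ x y y', b x (y * y') = b x y + b x y' := fun x y y' => by
    rw [hb, hb, hb, ← ofMul_mul]
    congr 1
    refine Subtype.ext ?_
    show ⁅(x : Γ), (y : Γ) * y'⁆ = ⁅(x : Γ), (y : Γ)⁆ * ⁅(x : Γ), (y' : Γ)⁆
    rw [comm_conj_mul, mem_center_iff.1 (hmem x y') y, mul_inv_cancel_right]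
  have hb0 : ∀ x y : ↥(bR Γ), Commute (x : Γ) y → b x y = 0 := fun x y hc => by
    rw [hb, ofMul_eq_zero]
    exact Subtype.ext (commutatorElement_eq_one_iff_commute.2 hc)
  have hlift : ∀ x, ∃ c : ↥(bR Γ), (c : Γ) ∈ bW Γ ⊔ bZ Γ ∧ x = σ (ψ x) * c := fun x =>
    ⟨(σ (ψ x))⁻¹ * x, (hψ1 _).1 (by rw [map_mul, map_inv, hσ, inv_mul_cancel]),
      by rw [mul_inv_cancel_left]⟩
  have hwd : ∀ x x' y y', ψ x = ψ x' → ψ y = ψ y' → b x y = b x' y' := by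
    intro x x' y y' hx hy
    have h1 : ∀ x y, b x y = b (σ (ψ x)) (σ (ψ y)) := fun x y => by
      obtain ⟨c, hc, ex⟩ := hlift x
      obtain ⟨c', hc', ey⟩ := hlift y
      conv_lhs => rw [ex, ey]
      rw [hbl, hbr, hb0 c _ (h.WZ_comm_R hc (Subtype.mem _)), add_zero,
        hb0 _ c' (h.WZ_comm_R hc' (Subtype.mem _)).symm, add_zero]
    rw [h1 x y, h1 x' y', hx, hy]
  have hψσ : ∀ a : Fin 2 → F, ψ (σ (Multiplicative.ofAdd a)) = Multiplicative.ofAdd a := fun a => hσ _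
  let g : (Fin 2 → F) →+ (Fin 2 → F) →+ Additive ↥(center Γ) :=
    AddMonoidHom.mk' (fun a => AddMonoidHom.mk'
        (fun c => b (σ (Multiplicative.ofAdd a)) (σ (Multiplicative.ofAdd c)))
        (fun c c' => by
          rw [← hbr]; exact hwd _ _ _ _ rfl (by rw [map_mul, hψσ, hψσ, hψσ, ofAdd_add])))
      (fun a a' => AddMonoidHom.ext fun c => by
        show b _ _ = b _ _ + b _ _
        rw [← hbl]; exact hwd _ _ _ _ (by rw [map_mul, hψσ, hψσ, hψσ, ofAdd_add]) rfl)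
  have hg : ∀ x y : ↥(bR Γ), g (Multiplicative.toAdd (ψ x)) (Multiplicative.toAdd (ψ y)) = b x y :=
    fun x y => hwd _ _ _ _ (hσ _) (hσ _)
  have hinv : ∀ (M : SL(2, F)) x y, g (M.1.mulVec x) (M.1.mulVec y) = g x y := by
    intro M x y
    obtain ⟨γ, rfl⟩ := hρ M
    obtain ⟨u, rfl⟩ : ∃ u, Multiplicative.toAdd (ψ u) = x := ⟨σ (Multiplicative.ofAdd x), by rw [hψσ, toAdd_ofAdd]⟩
    obtain ⟨v, rfl⟩ : ∃ v, Multiplicative.toAdd (ψ v) = y := ⟨σ (Multiplicative.ofAdd y), by rw [hψσ, toAdd_ofAdd]⟩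
    rw [← heq γ u ⟨_, h.normal_R.conj_mem u u.2 γ⟩ rfl, ← heq γ v ⟨_, h.normal_R.conj_mem v v.2 γ⟩ rfl,
      hg, hg, hb, hb]
    congr 1
    refine Subtype.ext ?_
    show ⁅γ * (u : Γ) * γ⁻¹, γ * (v : Γ) * γ⁻¹⁆ = ⁅(u : Γ), (v : Γ)⁆
    rw [show ⁅γ * (u : Γ) * γ⁻¹, γ * (v : Γ) * γ⁻¹⁆ = γ * ⁅(u : Γ), (v : Γ)⁆ * γ⁻¹ by
      simp only [commutatorElement_def]; group, mem_center_iff.1 (hmem u v) γ, mul_inv_cancel_right]
  have hle := SLThree.card_values_le g (fun x => hb0 _ _ (Commute.refl _)) hinv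
  rw [Nat.card_eq_fintype_card (α := F)] at hle
  obtain ⟨C, hC⟩ : ∃ C, C = AddSubgroup.closure {z : Additive ↥(center Γ) | ∃ x y, g x y = z} := ⟨_, rfl⟩
  have hval : bZ Γ ≤ (AddSubgroup.toSubgroup' C).map (center Γ).subtype := by
    rw [h.Z_eq]
    refine commutator_le.2 fun x hx y hy => ⟨⟨_, hmem ⟨x, hx⟩ ⟨y, hy⟩⟩, ?_, rfl⟩
    show Additive.ofMul (⟨_, hmem ⟨x, hx⟩ ⟨y, hy⟩⟩ : ↥(center Γ)) ∈ C
    rw [← hb, ← hg, hC]
    exact AddSubgroup.subset_closure ⟨_, _, rfl⟩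
  refine (Subgroup.card_le_of_le hval).trans (le_trans (le_of_eq ?_) (hC ▸ hle))
  rw [Subgroup.card_map_of_injective (center Γ).subtype_injective]
  rfl

theorem card_Z : Nat.card ↥(bZ Γ) = Fintype.card F := le_antisymm h.card_Z_le h.card_Z_ge

/-- `K` meets its centralizer in `Z`. -/
theorem K_inf_cent : K3 ⊓ centralizer (K3 : Set Γ) = bZ Γ := by
  refine le_antisymm ?_ (le_inf (inf_le_left.trans h.R_le_K) inf_le_right)
  rintro x ⟨hxK, hxC⟩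
  refine ⟨h.K_inf_Q ⟨hxK, ?_⟩, hxC⟩
  obtain ⟨-, ρ, ψ, hρ, hker, -, hψ, -, heq⟩ := h.W_natural
  refine hker.le (MonoidHom.mem_ker.2 (Subtype.ext ?_))
  rw [Matrix.SpecialLinearGroup.coe_one]
  refine Matrix.ext_of_mulVec_single fun i => ?_
  obtain ⟨w, hw⟩ := hψ (Multiplicative.ofAdd (Pi.single i 1))
  have hxw : x * (w : Γ) * x⁻¹ = w := conj_of_commute (commute_of_cent hxC (h.R_le_K (h.W_le_R w.2))).symm
  have h1 := heq x w w hxw.symm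
  rw [hw, toAdd_ofAdd] at h1
  rw [Matrix.one_mulVec]
  exact h1.symm

theorem pCore_K : Cfsg.pCore 3 ↥(K3) = (bR Γ).subgroupOf (K3) := by
  haveI := residual_normal (Γ := Γ)
  haveI := h.normal_R
  have hp := CfsgLib.Coprime.pCore_isPGroup (G := Γ) 3
  haveI hc : (Cfsg.pCore 3 ↥(K3)).Characteristic := CfsgLib.Coprime.pCore_characteristic 3
  refine le_antisymm ?_ (CfsgLib.PGroup.le_pCore inferInstance
    ((hp.to_le h.R_le_Q).comap_of_injective (K3).subtype (K3).subtype_injective))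
  intro x hx
  refine mem_subgroupOf.2 (h.K_inf_Q ⟨x.2, ?_⟩)
  haveI : ((Cfsg.pCore 3 ↥(K3)).map (K3).subtype).Normal := inferInstance
  exact CfsgLib.PGroup.le_pCore inferInstance
    ((CfsgLib.Coprime.pCore_isPGroup (G := ↥(K3)) 3).map (K3).subtype) (mem_map_of_mem _ hx)

theorem comm_RK : ⁅bR Γ, Cfsg.pResidual 3 Γ⁆ = bR Γ := by
  haveI := h.normal_R
  exact le_antisymm (Subgroup.commutator_le_left _ _) (comm_comm h.normalQ le_rfl)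

/-- The fixed points modulo `W × Z` come from fixed points modulo `Z`. -/
theorem line_split {l : Γ} (hl : l ∈ Line S (bR Γ) (bW Γ ⊔ bZ Γ)) :
    ∃ w ∈ bW Γ, ∃ c ∈ bR Γ, (∀ t ∈ S, ⁅t, c⁆ ∈ bZ Γ) ∧ l = w * c := by
  classical
  haveI := h.normal_W
  haveI := h.normal_R
  haveI := h.normal_Z
  haveI := h.normal_D
  haveI := h.normalQ
  obtain ⟨Cf, hCf⟩ : ∃ Cf : Subgroup Γ, ∀ r, r ∈ Cf ↔ r ∈ bR Γ ∧ ∀ t ∈ S, ⁅t, r⁆ ∈ bZ Γ := by
    refine ⟨{ carrier := {r | r ∈ bR Γ ∧ ∀ t ∈ S, ⁅t, r⁆ ∈ bZ Γ}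
              one_mem' := ⟨one_mem _, fun t _ => by rw [commutatorElement_one_right]; exact one_mem _⟩
              mul_mem' := fun {a c} ha hc => ⟨(bR Γ).mul_mem ha.1 hc.1, fun t ht => by
                rw [comm_conj_mul]
                exact (bZ Γ).mul_mem (ha.2 t ht) (Normal.conj_mem inferInstance _ (hc.2 t ht) a)⟩
              inv_mem' := fun {a} ha => ⟨(bR Γ).inv_mem ha.1, fun t ht => ?_⟩ }, fun _ => Iff.rfl⟩
    have e : ⁅t, a⁻¹⁆ = a⁻¹ * ⁅t, a⁆⁻¹ * a⁻¹⁻¹ := by simp only [commutatorElement_def]; group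
    rw [e]
    exact Normal.conj_mem inferInstance _ ((bZ Γ).inv_mem (ha.2 t ht)) _
  have hZCf : bZ Γ ≤ Cf := fun z hz => (hCf z).2 ⟨hz.1, fun t _ =>
    (bZ Γ).mul_mem (Normal.conj_mem inferInstance z hz t) ((bZ Γ).inv_mem hz)⟩
  obtain ⟨L, hL, hWL, hLR, hLi⟩ := h.R_step.exists_line h.normal_R
  -- the line is covered by the fixed points
  have hcover : L ≤ (bW Γ ⊔ bZ Γ) ⊔ Cf := by
    obtain ⟨M, hM⟩ : ∃ M, M = (bW Γ ⊔ bZ Γ) ⊔ Cf := ⟨_, rfl⟩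
    rw [← hM]
    have hML : M ≤ L := hM ▸ sup_le hWL fun r hr => (hL r).2
      ⟨((hCf r).1 hr).1, fun t ht => mem_sup_right (((hCf r).1 hr).2 t ht)⟩
    obtain ⟨N, hN⟩ : ∃ N, N = bW Γ ⊔ bD Γ := ⟨_, rfl⟩
    haveI hNn : N.Normal := hN ▸ inferInstance
    have hVM : V ≤ M ⊔ N := by
      intro v hv
      obtain ⟨r, hr, d, hd, e⟩ := h.Q_eq (h.V_le hv)
      refine e ▸ mul_mem_sup (hM ▸ mem_sup_right ((hCf r).2 ⟨hr, fun t ht => ?_⟩)) (hN ▸ mem_sup_right hd)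
      obtain ⟨a, ha, c, -, hc, rfl⟩ := h.qq t ht
      have htd : ⁅a * c, d⁆ ∈ bD Γ :=
        (bD Γ).mul_mem (Normal.conj_mem inferInstance d hd _) ((bD Γ).inv_mem hd)
      have h1 : ⁅a * c, v⁆ = ⁅a * c, r⁆ * ⁅a * c, d⁆ := by
        rw [e, comm_conj_mul, conj_of_commute (h.D_comm_R htd hr).symm]
      have h2 : ⁅a * c, v⁆ = ⁅a, v⁆ := by
        rw [comm_mul_conj, commutatorElement_eq_one_iff_commute.2 (hc v hv).symm]
        group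
      refine ⟨(bR Γ).mul_mem (Normal.conj_mem inferInstance r hr _) ((bR Γ).inv_mem hr), ?_⟩
      rw [show ⁅a * c, r⁆ = ⁅a, v⁆ * ⁅a * c, d⁆⁻¹ by rw [← h2, h1, mul_inv_cancel_right]]
      exact mul_mem (h.Fr_le_cent (h.comm_QQ ha (h.V_le hv))) (Subgroup.inv_mem _ htd.2)
    have hq : Fintype.card F ≤ (bW Γ ⊔ bZ Γ).relIndex M := by
      have e1 : (bW Γ ⊔ bZ Γ).relIndex M = N.relIndex M := by
        rw [← inf_relIndex_right N M]
        congr 1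
        refine le_antisymm (le_inf ?_ (hM ▸ le_sup_left)) fun x hx =>
          h.mem_WZ (hLR (hML hx.2)) (hN ▸ hx.1)
        exact hN ▸ sup_le le_sup_left (h.Z_le_D.trans le_sup_right)
      rw [e1, ← relIndex_sup_right, ← h.V_relIndex]
      refine le_trans ?_ (relIndex_le_of_le_right hVM Subgroup.index_ne_zero_of_finite)
      rw [← inf_relIndex_right N V]
      exact relIndex_le_of_le_left (fun x hx => h.V_inf hx.2 (hN ▸ hx.1)) Subgroup.index_ne_zero_of_finite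
    refine Subgroup.relIndex_eq_one.1 ?_
    have h1 := relIndex_mul_relIndex (bW Γ ⊔ bZ Γ) M L (hM ▸ le_sup_left) hML
    rw [hLi] at h1
    have h2 : M.relIndex L ≠ 0 := Subgroup.index_ne_zero_of_finite
    have h3 : M.relIndex L ≤ 1 := Nat.le_of_mul_le_mul_left
      (show Fintype.card F * M.relIndex L ≤ Fintype.card F * 1 by
        rw [mul_one]; exact (Nat.mul_le_mul_right _ hq).trans h1.le) Fintype.card_pos
    omega
  have hsplit : ∀ l ∈ L, ∃ w ∈ bW Γ, ∃ c ∈ Cf, l = w * c := by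
    intro l hl
    have h1 := hcover hl
    rw [sup_assoc, mem_sup_of_normal_left] at h1
    obtain ⟨w, hw, c, hc, e⟩ := h1
    exact ⟨w, hw, c, (sup_le hZCf le_rfl : bZ Γ ⊔ Cf ≤ Cf) hc, e.symm⟩
  obtain ⟨w, hw, c, hc, e⟩ := hsplit l ((hL l).2 hl)
  exact ⟨w, hw, c, ((hCf c).1 hc).1, ((hCf c).1 hc).2, e⟩

/-- An element of `S` outside `O_3(Γ)` does not move `R` quadratically modulo `Z`. -/
theorem exists_cubic {b : Γ} (hb : b ∈ S) (hbQ : b ∉ Q3) :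
    ∃ r ∈ bR Γ, ⁅⁅r, b⁆, b⁆ ∉ bZ Γ := by
  classical
  haveI := h.normal_W
  haveI := h.normal_R
  haveI := h.normal_Z
  haveI := h.normal_D
  haveI := h.normalQ
  obtain ⟨Cf, hCf⟩ : ∃ Cf : Subgroup Γ, ∀ r, r ∈ Cf ↔ r ∈ bR Γ ∧ ∀ t ∈ S, ⁅t, r⁆ ∈ bZ Γ := by
    refine ⟨{ carrier := {r | r ∈ bR Γ ∧ ∀ t ∈ S, ⁅t, r⁆ ∈ bZ Γ}
              one_mem' := ⟨one_mem _, fun t _ => by rw [commutatorElement_one_right]; exact one_mem _⟩
              mul_mem' := fun {a c} ha hc => ⟨(bR Γ).mul_mem ha.1 hc.1, fun t ht => by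
                rw [comm_conj_mul]
                exact (bZ Γ).mul_mem (ha.2 t ht) (Normal.conj_mem inferInstance _ (hc.2 t ht) a)⟩
              inv_mem' := fun {a} ha => ⟨(bR Γ).inv_mem ha.1, fun t ht => ?_⟩ }, fun _ => Iff.rfl⟩
    have e : ⁅t, a⁻¹⁆ = a⁻¹ * ⁅t, a⁆⁻¹ * a⁻¹⁻¹ := by simp only [commutatorElement_def]; group
    rw [e]
    exact Normal.conj_mem inferInstance _ ((bZ Γ).inv_mem (ha.2 t ht)) _
  have hZCf : bZ Γ ≤ Cf := fun z hz => (hCf z).2 ⟨hz.1, fun t _ =>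
    (bZ Γ).mul_mem (Normal.conj_mem inferInstance z hz t) ((bZ Γ).inv_mem hz)⟩
  obtain ⟨L, hL, -, -, -⟩ := h.R_step.exists_line h.normal_R
  have hsplit : ∀ l ∈ L, ∃ w ∈ bW Γ, ∃ c ∈ Cf, l = w * c := fun l hl => by
    obtain ⟨w, hw, c, hc, hc', e⟩ := h.line_split ((hL l).1 hl)
    exact ⟨w, hw, c, (hCf c).2 ⟨hc, hc'⟩, e⟩
  by_contra! hall
  -- `b` maps `R` into the fixed points
  have hbad : ∀ r ∈ bR Γ, ⁅b, r⁆ ∈ Cf := by
    intro r hr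
    have hlL : ⁅b, r⁆ ∈ L := (hL _).2 ((h.R_step.line_eq h.normal_R hb hbQ).2.1 r hr)
    obtain ⟨w, hw, c, hc, e⟩ := hsplit _ hlL
    obtain ⟨l, hl⟩ : ∃ l, l = ⁅b, r⁆ := ⟨_, rfl⟩
    rw [← hl] at e ⊢
    have h1 := hall r hr
    rw [show ⁅⁅r, b⁆, b⁆ = l⁻¹ * ⁅b, l⁆ * l⁻¹⁻¹ by
      rw [hl]; simp only [commutatorElement_def]; group] at h1
    have h2 : ⁅b, l⁆ ∈ bZ Γ := by simpa [mul_assoc] using h.normal_Z.conj_mem _ h1 l
    have hwb : ⁅b, w⁆ ∈ bW Γ := (bW Γ).mul_mem (Normal.conj_mem inferInstance w hw b) ((bW Γ).inv_mem hw)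
    rw [e, comm_conj_mul] at h2
    have h3 := mul_mem h2 (Subgroup.inv_mem _ (h.normal_Z.conj_mem _ (((hCf c).1 hc).2 b hb) w))
    rw [mul_inv_cancel_right] at h3
    have hbw : ⁅b, w⁆ = 1 := mem_bot.1 (h.W_inf_cent.le ⟨hwb, h3.2⟩)
    have hwl := (h.W_natural.line_eq h.normal_W hb hbQ).1 w hw (mem_bot.2 hbw)
    rw [e]
    exact mul_mem ((hCf w).2 ⟨h.W_le_R hw, fun t ht => (bot_le : ⊥ ≤ bZ Γ) (hwl.2 t ht)⟩) hc
  obtain ⟨Bad, hBad⟩ : ∃ Bad : Subgroup Γ, ∀ x, x ∈ Bad ↔ x ∈ S ∧ ∀ r ∈ bR Γ, ⁅x, r⁆ ∈ Cf := by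
    have hconj : ∀ x ∈ S, ∀ c ∈ Cf, x * c * x⁻¹ ∈ Cf := fun x hx c hc => by
      rw [show x * c * x⁻¹ = ⁅x, c⁆ * c by simp only [commutatorElement_def]; group]
      exact mul_mem (hZCf (((hCf c).1 hc).2 x hx)) hc
    refine ⟨{ carrier := {x | x ∈ S ∧ ∀ r ∈ bR Γ, ⁅x, r⁆ ∈ Cf}
              one_mem' := ⟨one_mem _, fun r _ => by rw [commutatorElement_one_left]; exact one_mem _⟩
              mul_mem' := fun {x y} hx hy => ⟨S.mul_mem hx.1 hy.1, fun r hr => by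
                rw [comm_mul_conj]; exact Cf.mul_mem (hconj x hx.1 _ (hy.2 r hr)) (hx.2 r hr)⟩
              inv_mem' := fun {x} hx => ⟨S.inv_mem hx.1, fun r hr => by
                rw [show ⁅x⁻¹, r⁆ = x⁻¹ * ⁅x, r⁆⁻¹ * x⁻¹⁻¹ by simp only [commutatorElement_def]; group]
                exact hconj _ (S.inv_mem hx.1) _ (Cf.inv_mem (hx.2 r hr))⟩ }, fun _ => Iff.rfl⟩
  have hQBad : Q3 ≤ Bad := fun p hp => (hBad p).2 ⟨h.Q_le hp, fun r hr => hZCf (h.comm_QR hp hr)⟩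
  obtain ⟨n, hn, y, hy, v, hv, e, hne⟩ := h.cube
  have hnS := h.A_le hn
  have hnBad : n ∉ Bad := by
    intro hnB
    obtain ⟨r, hr, d, hd, rfl⟩ := h.Q_eq hy
    have hnd : ⁅n, d⁆ ∈ bD Γ := (bD Γ).mul_mem (Normal.conj_mem inferInstance d hd n) ((bD Γ).inv_mem hd)
    have hnnd : ⁅n, ⁅n, d⁆⁆ ∈ bD Γ :=
      (bD Γ).mul_mem (Normal.conj_mem inferInstance _ hnd n) ((bD Γ).inv_mem hnd)
    have hnr := ((hBad n).1 hnB).2 r hr
    rw [comm_conj_mul n r d, conj_of_commute (h.D_comm_R hnd hr).symm, comm_conj_mul,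
      conj_of_commute (h.D_comm_R hnnd ((hCf _).1 hnr).1).symm] at e
    obtain ⟨w, hw, z, hz, rfl⟩ := h.Y_split hv
    rw [comm_conj_mul n w z, commutatorElement_eq_one_iff_commute.2 (mem_center_iff.1 hz n : Commute n z),
      mul_one, mul_inv_cancel, mul_one] at e hne
    refine hne (mem_bot.1 (h.W_inf_cent.le ⟨(bW Γ).mul_mem (Normal.conj_mem inferInstance w hw n)
      ((bW Γ).inv_mem hw), e ▸ mul_mem (((hCf _).1 hnr).2 n hnS).2 hnnd.2⟩))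
  obtain ⟨-, ρ, -, hρ, hker, hS, -, -, -⟩ := h.R_step
  have hpre : ∀ x, ρ x ∈ upGroup F → x ∈ S := fun x hx => by
    obtain ⟨t, ht, htx⟩ := (hS.ge hx : ρ x ∈ S.map ρ)
    have h1 : t⁻¹ * x ∈ S := h.Q_le (hker.le (MonoidHom.mem_ker.2 (by rw [map_mul, map_inv, htx, inv_mul_cancel])))
    simpa using S.mul_mem ht h1
  have hne1 : Bad.map ρ ≠ ⊥ := fun he => hbQ (hker.le (MonoidHom.mem_ker.2 (mem_bot.1
    (he ▸ mem_map_of_mem ρ ((hBad b).2 ⟨hb, hbad⟩)))))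
  refine hnBad ?_
  have hup := SLThree.upGroup_le_of_torus (S₁ := Bad.map ρ)
    (hS ▸ Subgroup.map_mono fun x hx => ((hBad x).1 hx).1) hne1 ?_ (hS ▸ mem_map_of_mem ρ hnS)
  · obtain ⟨t, ht, htn⟩ := hup
    have h1 : t⁻¹ * n ∈ Bad := hQBad (hker.le (MonoidHom.mem_ker.2 (by rw [map_mul, map_inv, htn, inv_mul_cancel])))
    simpa using Bad.mul_mem ht h1
  -- invariance under the normalizer of `S`
  intro γ hγ _ hmem
  obtain ⟨g, rfl⟩ := hρ γ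
  obtain ⟨x, hx, rfl⟩ := hmem
  obtain ⟨hxS, hxR⟩ := (hBad x).1 hx
  have hnorm : ∀ t ∈ S, g * t * g⁻¹ ∈ S ∧ g⁻¹ * t * g ∈ S := by
    intro t ht
    have hm : ρ t ∈ upGroup F := hS ▸ mem_map_of_mem ρ ht
    constructor <;> refine hpre _ ?_ <;>
      rw [map_mul, map_mul, map_inv, CfsgLib.PushUpTwo.eq_up_of_mem hm]
    · exact SLThree.conj_up_mem hγ
    · exact SLThree.conj_up_mem' hγ
  refine ⟨g * x * g⁻¹, (hBad _).2 ⟨(hnorm x hxS).1, fun r hr => ?_⟩, by rw [map_mul, map_mul, map_inv]⟩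
  have hr' : g⁻¹ * r * g ∈ bR Γ := by simpa using Normal.conj_mem inferInstance r hr g⁻¹
  rw [show ⁅g * x * g⁻¹, r⁆ = g * ⁅x, g⁻¹ * r * g⁆ * g⁻¹ by simp only [commutatorElement_def]; group]
  obtain ⟨hc1, hc2⟩ := (hCf _).1 (hxR _ hr')
  refine (hCf _).2 ⟨Normal.conj_mem inferInstance _ hc1 g, fun t ht => ?_⟩
  rw [show ⁅t, g * ⁅x, g⁻¹ * r * g⁆ * g⁻¹⁆ = g * ⁅g⁻¹ * t * g, ⁅x, g⁻¹ * r * g⁆⁆ * g⁻¹ by
    simp only [commutatorElement_def]; group]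
  exact Normal.conj_mem inferInstance _ (hc2 _ (hnorm t ht).2) g

end Lay

end CfsgLib.PushAmalgam.TwoLayer
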