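import Cfsg.Agent.Lib.PushAmalgam.TwoLayer.Layers
import Cfsg.Agent.Lib.Fusion.PComplement

/-!
# Two natural layers: `R` is special

The centre of `R` is `W × Z`, the residual meets `O_3(Γ)` in `R`, `Z = [R, R]` is central of order `q`, and
no element of `S` outside `O_3(Γ)` moves `R` quadratically modulo `Z`.
-/

set_option autoImplicit false
set_option linter.style.haveILetI false
set_option linter.unusedSectionVars false

open Subgroup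
open scoped MatrixGroups commutatorElement Pointwise
open CfsgLib.PushUp (cj mem_cj conj_mem_cj card_cj ctr Fr)
open CfsgLib.PushUpTwo (upGroup)
open scoped IsMulCommutative

namespace CfsgLib.PushAmalgam.TwoLayer

universe u

variable {Γ : Type u} [Group Γ]

local notation "Q3" => Cfsg.pCore 3 Γ
local notation "K3" => Cfsg.pResidual 3 Γ

/-- An element of exponent dividing nine lies in a subgroup with its square. -/
theorem mem_of_sq_mem {H : Subgroup Γ} {z : Γ} (h9 : z ^ 9 = 1) (h2 : z ^ 2 ∈ H) : z ∈ H := by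
  have e : z = (z ^ 2) ^ 5 := by rw [← pow_mul, show 2 * 5 = 9 + 1 by rfl, pow_add, h9, one_mul, pow_one]
  rw [e]; exact pow_mem h2 5

theorem eq_one_of_two_three {z : Γ} (h2 : z ^ 2 = 1) (h3 : z ^ 3 = 1) : z = 1 := by
  rwa [pow_succ, h2, one_mul] at h3

variable {F : Type} [Field F] [Fintype F] [CharP F 3] {S V A A₀ : Subgroup Γ}

namespace Lay

variable [Finite Γ] (h : Lay F S V A A₀)
include h

theorem commute_QR {p r : Γ} (hp : p ∈ Q3) (hpR : ∀ x ∈ bR Γ, Commute p x) (hr : r ∈ bR Γ) {d : Γ}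
    (hd : d ∈ bD Γ) (e : p = r * d) : ∀ x ∈ bR Γ, Commute r x := by
  intro x hx
  have h1 : Commute (p * d⁻¹) x := (hpR x hx).mul_left (h.D_comm_R hd hx).inv_left
  rwa [e, mul_inv_cancel_right] at h1

/-- The centre of `R` lies in `W × Z`. -/
theorem cent_R {x : Γ} (hx : x ∈ bR Γ) (hc : ∀ r ∈ bR Γ, Commute r x) : x ∈ bW Γ ⊔ bZ Γ := by
  haveI := h.normal_R
  haveI := h.normal_W
  haveI := h.normal_Z
  obtain ⟨N, hN⟩ : ∃ N, N = bR Γ ⊓ centralizer (bR Γ : Set Γ) := ⟨_, rfl⟩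
  have hNn : N.Normal := hN ▸ inferInstance
  have h1 : bW Γ ⊔ bZ Γ ≤ N := hN ▸ le_inf (sup_le h.W_le_R inf_le_left)
    (fun y hy => mem_centralizer_iff.2 fun r hr => (h.WZ_comm_R hy hr).symm.eq)
  rcases h.R_step.between h.normal_R inferInstance h.R_le_Q hNn h1 (hN ▸ inf_le_left) with e | e
  · exact e ▸ (hN ▸ mem_inf.2 ⟨hx, mem_centralizer_iff.2 fun r hr => (hc r hr).eq⟩)
  · exfalso
    refine h.R_not_le fun r hr => h.mem_WZ hr (h.Y_le ⟨h.R_le_Q hr, mem_centralizer_iff.2 fun p hp => ?_⟩)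
    obtain ⟨r', hr', d, hd, rfl⟩ := h.Q_eq hp
    exact (Commute.mul_left (commute_of_cent ((e ▸ hN.le : bR Γ ≤ bR Γ ⊓ _) hr).2 hr')
      (h.D_comm_R hd hr)).eq

theorem not_forall_fix {a : Γ} (ha : a ∈ S) (haQ : a ∉ Q3) :
    ∃ r ∈ bR Γ, ⁅a, r⁆ ∉ bW Γ ⊔ bZ Γ := by
  by_contra! hall
  obtain ⟨L, hL, -, -, hLi⟩ := h.R_step.exists_line h.normal_R
  have hRL : bR Γ ≤ L := fun r hr => (hL r).2 ((h.R_step.line_eq h.normal_R ha haQ).1 r hr (hall r hr))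
  have h1 : (bW Γ ⊔ bZ Γ).relIndex (bR Γ) ≤ Fintype.card F :=
    hLi ▸ relIndex_le_of_le_right hRL Subgroup.index_ne_zero_of_finite
  rw [h.R_step.relIndex_eq, pow_two] at h1
  have := Fintype.one_lt_card (α := F)
  nlinarith

theorem V_not_in (hV : ∀ v ∈ V, ∀ r ∈ bR Γ, Commute r v) : False := by
  haveI := h.normal_W
  have hVN : V ≤ bW Γ ⊔ bD Γ := by
    intro v hv
    obtain ⟨r, hr, d, hd, rfl⟩ := h.Q_eq (h.V_le hv)
    refine mul_mem ?_ (mem_sup_right hd)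
    refine (sup_le le_sup_left ((le_inf (inf_le_left.trans h.R_le_Q) inf_le_right).trans le_sup_right) :
      bW Γ ⊔ bZ Γ ≤ bW Γ ⊔ bD Γ) (h.cent_R hr fun x hx => ?_)
    exact (h.commute_QR (h.V_le hv) (fun x hx => (hV _ hv x hx).symm) hr hd rfl x hx).symm
  obtain ⟨a, ha, haS, haQ⟩ := h.exists_A
  obtain ⟨r, hr, hra⟩ := h.not_forall_fix haS haQ
  refine hra (h.mem_WZ ?_ ?_)
  · haveI := h.normal_R
    exact (bR Γ).mul_mem (Normal.conj_mem inferInstance r hr a) ((bR Γ).inv_mem hr)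
  · rw [← commutatorElement_inv r a]
    exact Subgroup.inv_mem _ ((sup_le hVN h.Y_le : V ⊔ ctr (Cfsg.pCore 3 Γ) ≤ bW Γ ⊔ bD Γ)
      (h.A_P r (h.R_le_Q hr) a ha))

/-- `V` meets `W D` only in `Z(S)`. -/
theorem V_inf {v : Γ} (hv : v ∈ V) (hvN : v ∈ bW Γ ⊔ bD Γ) : v ∈ ctr S := by
  haveI := h.normal_W
  by_contra hvS
  refine h.V_not_in fun w hw r hr => ((h.fix v hv r (h.Q_le (h.R_le_Q hr)) ?_).resolve_left hvS w hw).symm
  obtain ⟨x, hx, d, hd, rfl⟩ := mem_sup_of_normal_left.1 hvN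
  exact ((h.Y_comm (h.W_le_Y hx) (h.R_le_Q hr)).mul_left (h.D_comm_R hd hr)).symm

theorem exists_s0 : ∃ s ∈ bR Γ, ∀ v ∈ V, Commute s v → v ∈ ctr S := by
  by_contra! hall
  refine h.V_not_in fun w hw r hr => ?_
  obtain ⟨v, hv, hc, hvS⟩ := hall r hr
  exact ((h.fix v hv r (h.Q_le (h.R_le_Q hr)) hc).resolve_left hvS w hw).symm

theorem V_relIndex : (ctr S).relIndex V = Fintype.card F := by
  have h1 := relIndex_mul_relIndex ⊥ _ V bot_le h.ctr_le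
  rw [relIndex_bot_left, relIndex_bot_left, h.V_card, h.Y_card] at h1
  exact Nat.eq_of_mul_eq_mul_left Nat.card_pos h1

/-- A central element of `O_3(Γ)` lies in `Z(S)`. -/
theorem center_le_ctr {x : Γ} (hx : x ∈ center Γ) (hxQ : x ∈ Q3) : x ∈ ctr S :=
  ⟨h.Q_le hxQ, center_le_centralizer _ hx⟩

theorem comm_DA {d a : Γ} (hd : d ∈ bD Γ) (ha : a ∈ A) : ⁅d, a⁆ ∈ center Γ := by
  haveI := h.normal_D
  haveI := h.normal_Y
  haveI := h.normal_W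
  have hcD : ⁅d, a⁆ ∈ bD Γ := by
    rw [commutatorElement_def, show d * a * d⁻¹ * a⁻¹ = d * (a * d⁻¹ * a⁻¹) by group]
    exact (bD Γ).mul_mem hd (Normal.conj_mem inferInstance _ ((bD Γ).inv_mem hd) a)
  obtain ⟨v, hv, y, hy, e⟩ := mem_sup_of_normal_right.1 (h.A_P d hd.1 a ha)
  have hvY : v ∈ ctr (Cfsg.pCore 3 Γ) := h.ctrS_le_Y (h.V_inf hv (by
    rw [show v = ⁅d, a⁆ * y⁻¹ by rw [← e, mul_inv_cancel_right]]
    exact mul_mem (mem_sup_right hcD) (Subgroup.inv_mem _ (h.Y_le hy))))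
  obtain ⟨w, hw, z, hz, e'⟩ := h.Y_split (e ▸ mul_mem hvY hy : ⁅d, a⁆ ∈ _)
  have hw1 : w = 1 := mem_bot.1 (h.W_inf_cent.le ⟨hw, by
    rw [show w = ⁅d, a⁆ * z⁻¹ by rw [e', mul_inv_cancel_right]]
    exact mul_mem hcD.2 (Subgroup.inv_mem _ (center_le_centralizer _ hz))⟩)
  rw [e', hw1, one_mul]
  exact hz

/-! ### The residual meets `O_3(Γ)` in `R` -/

theorem exists_fixed_rep {j u : Γ} (hjK : j ∈ K3) (hj : j * j = 1) (hj1 : j ≠ 1) (hu : u ∈ S)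
    (huK : u ∈ K3) : ∃ r ∈ bR Γ, r * u ∈ S ∧ r * u ∈ K3 ∧ j * (r * u) * j⁻¹ = r * u := by
  haveI := h.normalQ
  haveI := residual_normal (Γ := Γ)
  obtain ⟨x, hx⟩ : ∃ x, x = ⁅j, u⁆ := ⟨_, rfl⟩
  have hxQ : x ∈ Q3 := by
    have e : x = u * (u⁻¹ * j * u * j⁻¹) * u⁻¹ := by rw [hx, commutatorElement_def]; group
    rw [e]
    exact Normal.conj_mem inferInstance _ (h.invol_comm hj hj1 u) u
  have hxK : x ∈ K3 := hx ▸ (K3).mul_mem ((K3).mul_mem ((K3).mul_mem hjK huK) ((K3).inv_mem hjK))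
    ((K3).inv_mem huK)
  obtain ⟨h1, h2⟩ := h.split_invol (x := u) hj (hx ▸ hxQ)
  rw [← hx] at h1 h2
  have hxR : x ∈ bR Γ := by
    haveI := h.normal_R
    have hinv : j * x * j⁻¹ = x⁻¹ := by
      have hji : j⁻¹ = j := inv_eq_of_mul_eq_one_right hj
      rw [hx, commutatorElement_inv, commutatorElement_def, commutatorElement_def, hji]
      calc j * (j * u * j * u⁻¹) * j = (j * j) * u * j * u⁻¹ * j := by group
        _ = _ := by rw [hj, one_mul]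
    obtain ⟨r, hr, d, hd, hrd⟩ := h.Q_eq hxQ
    rw [hrd] at hinv ⊢
    refine (bR Γ).mul_mem hr (mem_of_sq_mem (h.pow_nine hd.1) ?_)
    have e : j * (r * d) * j⁻¹ = (j * r * j⁻¹) * d := by
      rw [show j * (r * d) * j⁻¹ = (j * r * j⁻¹) * (j * d * j⁻¹) by group,
        conj_of_commute (commute_of_cent hd.2 hjK)]
    rw [e] at hinv
    have e2 : d ^ 2 = (j * r * j⁻¹)⁻¹ * r⁻¹ := by
      calc d ^ 2 = (j * r * j⁻¹)⁻¹ * ((j * r * j⁻¹) * d) * d := by rw [pow_two]; group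
        _ = (j * r * j⁻¹)⁻¹ * (d⁻¹ * r⁻¹) * d := by rw [hinv, mul_inv_rev r d]
        _ = (j * r * j⁻¹)⁻¹ * d⁻¹ * (r⁻¹ * d) := by group
        _ = _ := by rw [← (h.D_comm_R hd ((bR Γ).inv_mem hr)).eq]; group
    rw [e2]
    exact (bR Γ).mul_mem ((bR Γ).inv_mem (Normal.conj_mem inferInstance r hr j)) ((bR Γ).inv_mem hr)
  refine ⟨x ^ 5, pow_mem hxR 5, mul_mem (h.Q_le (pow_mem hxQ 5)) hu, mul_mem (pow_mem hxK 5) huK, h2⟩

theorem exists_Y_rep {j u : Γ} (hjK : j ∈ K3) (hj : j * j = 1) (hj1 : j ≠ 1) (hu : u ∈ S)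
    (huK : u ∈ K3) : ∃ a ∈ A₀, ∃ y ∈ ctr (Cfsg.pCore 3 Γ), ∃ r ∈ bR Γ, r * u = a * y := by
  haveI := h.normal_R
  haveI := h.normal_W
  haveI := h.normal_Y
  haveI := h.normal_Fr
  obtain ⟨r₀, hr₀, hvS, hvK, hvj⟩ := h.exists_fixed_rep hjK hj hj1 hu huK
  obtain ⟨a, ha, p, hp, e⟩ := h.A₀_sup _ hvS
  obtain ⟨v, hv⟩ : ∃ v, v = r₀ * u := ⟨_, rfl⟩
  rw [← hv] at hvK hvj e
  have hpfix : ∀ a₁ ∈ A₀ ⊓ Q3, Commute a₁ p := by
    intro a₁ ha₁
    obtain ⟨r, hr, d, hd, e₁⟩ := h.Q_eq ha₁.2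
    obtain ⟨c, hc⟩ : ∃ c, c = ⁅v, r⁆ := ⟨_, rfl⟩
    have hva : ⁅v, a₁⁆ = c := by
      rw [hc, e₁, comm_conj_mul, commutatorElement_eq_one_iff_commute.2 (commute_of_cent hd.2 hvK),
        mul_one, mul_inv_cancel, mul_one]
    have hva' : ⁅v, a₁⁆ = a * ⁅p, a₁⁆ * a⁻¹ := by
      rw [e, comm_mul_conj, commutatorElement_eq_one_iff_commute.2 (h.A₀_comm a ha a₁ ha₁.1), mul_one]
    have hcF : c ∈ Fr (Cfsg.pCore 3 Γ) := by
      rw [← hva, hva']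
      exact Normal.conj_mem inferInstance _ (h.comm_QQ hp ha₁.2) a
    have hcZ : c ∈ bZ Γ := ⟨hc ▸ (bR Γ).mul_mem (Normal.conj_mem inferInstance r hr v)
      ((bR Γ).inv_mem hr), h.Fr_le_cent hcF⟩
    obtain ⟨w, hw, z, hz, e₂⟩ := mem_sup_of_normal_left.1 (h.R_step.invert h h.normal_R hj hj1 hr)
    have hcr : ∀ x ∈ bR Γ, x * c * x⁻¹ = c := fun x hx => conj_of_commute (h.Z_comm_R hcZ hx).symm
    have hwv : ⁅v, w⁆ ∈ bW Γ := (bW Γ).mul_mem (Normal.conj_mem inferInstance w hw v) ((bW Γ).inv_mem hw)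
    have h2 : c = c⁻¹ * ⁅v, w⁆ := by
      calc c = j * c * j⁻¹ := (conj_of_commute (commute_of_cent hcZ.2 hjK)).symm
        _ = ⁅j * v * j⁻¹, j * r * j⁻¹⁆ := by rw [hc]; simp only [commutatorElement_def]; group
        _ = ⁅v, r⁻¹ * (w * z)⁆ := by rw [hvj, e₂]; congr 1; group
        _ = ⁅v, r⁻¹⁆ * (r⁻¹ * ⁅v, w * z⁆ * r⁻¹⁻¹) := comm_conj_mul _ _ _
        _ = (r⁻¹ * c⁻¹ * r⁻¹⁻¹) * (r⁻¹ * ⁅v, w⁆ * r⁻¹⁻¹) := by
          congr 1
          · rw [hc]; simp only [commutatorElement_def]; group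
          · rw [comm_conj_mul v w z, commutatorElement_eq_one_iff_commute.2 (commute_of_cent hz.2 hvK),
              mul_one, mul_inv_cancel, mul_one]
        _ = _ := by
          rw [conj_of_commute ((h.Z_comm_R hcZ ((bR Γ).inv_mem hr)).inv_left).symm,
            conj_of_commute ((h.Y_comm (h.W_le_Y hwv) (h.R_le_Q ((bR Γ).inv_mem hr))).symm)]
    have hc2 : c ^ 2 = 1 := mem_bot.1 (h.W_inf_cent.le ⟨by
      rw [pow_two]
      nth_rewrite 2 [h2]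
      rwa [mul_inv_cancel_left], pow_mem hcZ.2 2⟩)
    have hc1 := eq_one_of_two_three hc2 (h.Fr_elem c hcF)
    rw [← hva, hva'] at hc1
    have h3 : ⁅p, a₁⁆ = 1 := by
      calc ⁅p, a₁⁆ = a⁻¹ * (a * ⁅p, a₁⁆ * a⁻¹) * a := by group
        _ = _ := by rw [hc1]; group
    exact (commutatorElement_eq_one_iff_commute.1 h3).symm
  have hpA := h.A₀_self p (h.Q_le hp) fun x hx => by
    have hle : A₀ ⊓ Cfsg.pCore 3 Γ ⊔ ctr (Cfsg.pCore 3 Γ) ≤ centralizer ({p} : Set Γ) :=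
      sup_le (fun x hx => mem_centralizer_singleton_iff.2 (hpfix x hx).eq)
        fun x hx => mem_centralizer_singleton_iff.2 (h.Y_comm hx hp).eq
    exact mem_centralizer_singleton_iff.1 (hle hx)
  obtain ⟨a₁, ha₁, y, hy, e'⟩ := mem_sup_of_normal_right.1 hpA
  refine ⟨a * a₁, mul_mem ha ha₁.1, y, hy, r₀, hr₀, ?_⟩
  rw [← hv, e, ← e', mul_assoc]

theorem K_inf_Q : K3 ⊓ Q3 ≤ bR Γ := by
  classical
  haveI := h.normal_R
  haveI := residual_normal (Γ := Γ)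
  obtain ⟨j, hjK, hj, hj1⟩ := h.exists_invol
  obtain ⟨P₀, hP₀⟩ := h.syl
  obtain ⟨π, hπ⟩ : ∃ π, π = QuotientGroup.mk' (bR Γ) := ⟨_, rfl⟩
  have h1 : ∀ x ∈ bR Γ, π x = 1 := fun x hx => hπ ▸ (QuotientGroup.eq_one_iff x).2 hx
  obtain ⟨Pb, hPb⟩ : ∃ Pb, Pb = (S ⊓ K3).map π := ⟨_, rfl⟩
  have hcen : ∀ y ∈ ctr (Cfsg.pCore 3 Γ), ∀ g : Γ, Commute (π y) (π g) := by
    intro y hy g
    obtain ⟨w, hw, z, hz, rfl⟩ := h.Y_split hy
    rw [map_mul, h1 w (h.W_le_R hw), one_mul]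
    exact (show Commute z g from (mem_center_iff.1 hz g).symm).map π
  have hab : ∀ x ∈ Pb, ∀ y ∈ Pb, x * y = y * x := by
    rw [hPb]
    rintro _ ⟨x, hx, rfl⟩ _ ⟨y, hy, rfl⟩
    obtain ⟨a, ha, c, hc, r, hr, e⟩ := h.exists_Y_rep hjK hj hj1 hx.1 hx.2
    obtain ⟨a', ha', c', hc', r', hr', e'⟩ := h.exists_Y_rep hjK hj hj1 hy.1 hy.2
    have ex : π x = π a * π c := by rw [← map_mul, ← e, map_mul, h1 r hr, one_mul]
    have ey : π y = π a' * π c' := by rw [← map_mul, ← e', map_mul, h1 r' hr', one_mul]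
    rw [ex, ey]
    exact (((h.A₀_comm a ha a' ha').map π).mul_right (hcen c' hc' a).symm).mul_left
      ((hcen c hc a').mul_right (hcen c hc c'))
  haveI : IsMulCommutative ↥Pb := ⟨⟨fun a b => Subtype.ext (hab a a.2 b b.2)⟩⟩
  obtain ⟨PK, hPK⟩ : ∃ PK : Subgroup ↥(K3), PK = (S ⊓ K3).subgroupOf (K3) := ⟨_, rfl⟩
  obtain ⟨φ, hφ⟩ : ∃ φ : ↥PK →* ↥Pb, ∀ x : ↥PK, ((φ x : ↥Pb) : Γ ⧸ bR Γ) = π ((x : ↥(K3)) : Γ) :=
    ⟨((π.comp (K3).subtype).comp PK.subtype).codRestrict Pb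
      (fun x => hPb ▸ mem_map_of_mem π (mem_subgroupOf.1 (hPK.le x.2))), fun _ => rfl⟩
  have hidx : ¬ 3 ∣ PK.index := by
    have h2 := CfsgLib.Fusion.not_dvd_relIndex_inf_of_normal P₀ (K3)
    rw [hP₀] at h2
    rw [hPK]
    exact h2
  have hT : ∀ k : ↥(K3), MonoidHom.transfer φ k = 1 := fun k =>
    CfsgLib.Fusion.pResidual_le_ker (MonoidHom.transfer φ)
      (hPb ▸ (h.isP.to_le inf_le_left).map π) (CfsgLib.Fusion.pResidual_pResidual.ge (mem_top k))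
  rintro x ⟨hxK, hxQ⟩
  obtain ⟨r, hr, d, hd, e⟩ := h.Q_eq hxQ
  rw [e]
  refine (bR Γ).mul_mem hr ?_
  have hdK : d ∈ K3 := by
    rw [show d = r⁻¹ * x by rw [e, inv_mul_cancel_left]]
    exact mul_mem ((K3).inv_mem (h.R_le_K hr)) hxK
  have key : ∀ (n : ℕ) (g : ↥(K3)), g⁻¹ * (⟨d, hdK⟩ : ↥(K3)) ^ n * g ∈ PK →
      g⁻¹ * (⟨d, hdK⟩ : ↥(K3)) ^ n * g = (⟨d, hdK⟩ : ↥(K3)) ^ n := by
    intro n g _
    have hc : Commute (⟨d, hdK⟩ : ↥(K3)) g := Subtype.ext (commute_of_cent hd.2 g.2).symm.eq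
    rw [mul_assoc, (hc.pow_left n).eq, inv_mul_cancel_left]
  have h2 := hT ⟨d, hdK⟩
  rw [MonoidHom.transfer_eq_pow φ _ key] at h2
  have h3 := congrArg Subtype.val h2
  rw [hφ, SubmonoidClass.coe_pow, Subgroup.coe_one, map_pow] at h3
  obtain ⟨k, hk⟩ := h.isP ⟨d, h.Q_le hd.1⟩
  have hd3 : d ^ 3 ^ k = 1 := congrArg Subtype.val hk
  have h4 : π d ^ 3 ^ k = 1 := by rw [← map_pow, hd3, map_one]
  rw [← QuotientGroup.eq_one_iff, ← QuotientGroup.mk'_apply, ← hπ]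
  exact orderOf_eq_one_iff.1 (Nat.eq_one_of_dvd_coprimes
    (Nat.Coprime.pow_right k ((Nat.Prime.coprime_iff_not_dvd Nat.prime_three).2 hidx).symm)
    (orderOf_dvd_of_pow_eq_one h3) (orderOf_dvd_of_pow_eq_one h4))

end Lay

end CfsgLib.PushAmalgam.TwoLayer
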